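import Mathlib.GroupTheory.GroupAction.Quotient
import Mathlib.GroupTheory.Index
import Mathlib.Data.ZMod.Basic
import Mathlib.Tactic

/-!
# Collineations of the plane of order three

The lines are the translates of the difference set `{0, 1, 3, 9}` modulo 13; at most 5616
permutations preserve them, as a frame determines a collineation.
-/

set_option autoImplicit false

namespace CfsgLib.Classification.Order5616.Plane

open MulAction

/-- The difference set. -/
def base : Finset (ZMod 13) := {0, 1, 3, 9}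

/-- The line with index `j`. -/
def line (j : ZMod 13) : Finset (ZMod 13) := base.image (· + j)

/-- The index of the line through two points. -/
def join (a b : ZMod 13) : ZMod 13 :=
  if a ∈ line 0 ∧ b ∈ line 0 then 0 else if a ∈ line 1 ∧ b ∈ line 1 then 1
  else if a ∈ line 2 ∧ b ∈ line 2 then 2 else if a ∈ line 3 ∧ b ∈ line 3 then 3
  else if a ∈ line 4 ∧ b ∈ line 4 then 4 else if a ∈ line 5 ∧ b ∈ line 5 then 5
  else if a ∈ line 6 ∧ b ∈ line 6 then 6 else if a ∈ line 7 ∧ b ∈ line 7 then 7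
  else if a ∈ line 8 ∧ b ∈ line 8 then 8 else if a ∈ line 9 ∧ b ∈ line 9 then 9
  else if a ∈ line 10 ∧ b ∈ line 10 then 10 else if a ∈ line 11 ∧ b ∈ line 11 then 11
  else 12

theorem mem_join : ∀ a b : ZMod 13, a ∈ line (join a b) ∧ b ∈ line (join a b) := by
  decide +kernel

theorem eq_join : ∀ a b j : ZMod 13, a ≠ b → a ∈ line j → b ∈ line j → j = join a b := by
  decide +kernel

theorem line_zero : line 0 = base := by decide +kernel

theorem card_line : ∀ j : ZMod 13, (line j).card = 4 := by decide +kernel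

/-- The collineations. -/
def Aut : Subgroup (Equiv.Perm (ZMod 13)) where
  carrier := {σ | ∀ i, ∃ j, (line i).image σ = line j}
  one_mem' i := ⟨i, by simp⟩
  mul_mem' {σ τ} hσ hτ i := by
    obtain ⟨j, hj⟩ := hτ i
    obtain ⟨k, hk⟩ := hσ j
    exact ⟨k, by rw [Equiv.Perm.coe_mul, ← Finset.image_image, hj, hk]⟩
  inv_mem' {σ} hσ i := by
    choose f hf using hσ
    have hinj : Function.Injective f := fun a b hab => by
      have h : (line a).image σ = (line b).image σ := by rw [hf, hf, hab]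
      have h' := Finset.image_injective σ.injective h
      have key : ∀ a b : ZMod 13, (base.image (· + a)) = base.image (· + b) → a = b := by decide +kernel
      exact key a b h'
    obtain ⟨a, rfl⟩ := Finite.surjective_of_injective hinj i
    refine ⟨a, ?_⟩
    rw [← hf a, Finset.image_image]
    simp

/-- A collineation fixing two points fixes their line. -/
theorem mem_of_fixed {σ : Equiv.Perm (ZMod 13)} (hσ : σ ∈ Aut) {a b x : ZMod 13} (hab : a ≠ b)
    (ha : σ a = a) (hb : σ b = b) (hx : x ∈ line (join a b)) : σ x ∈ line (join a b) := by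
  obtain ⟨j, hj⟩ := hσ (join a b)
  obtain ⟨h1, h2⟩ := mem_join a b
  have h1' : a ∈ line j := hj ▸ Finset.mem_image.2 ⟨a, h1, ha⟩
  have h2' : b ∈ line j := hj ▸ Finset.mem_image.2 ⟨b, h2, hb⟩
  rw [← eq_join a b j hab h1' h2', ← hj]
  exact Finset.mem_image_of_mem σ hx

/-- The meet of two fixed lines is fixed. -/
theorem fixed_meet {σ : Equiv.Perm (ZMod 13)} (hσ : σ ∈ Aut) {a b c d x : ZMod 13}
    (ha : σ a = a) (hb : σ b = b) (hc : σ c = c) (hd : σ d = d) (hab : a ≠ b) (hcd : c ≠ d)
    (hx1 : x ∈ line (join a b)) (hx2 : x ∈ line (join c d))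
    (huniq : ∀ y : ZMod 13, y ∈ line (join a b) → y ∈ line (join c d) → y = x) : σ x = x :=
  huniq _ (mem_of_fixed hσ hab ha hb hx1) (mem_of_fixed hσ hcd hc hd hx2)

/-- A collineation fixing the frame `0, 1, 2, 5` is the identity. -/
theorem eq_one_of_frame {σ : Equiv.Perm (ZMod 13)} (hσ : σ ∈ Aut) (h0 : σ 0 = 0) (h1 : σ 1 = 1)
    (h2 : σ 2 = 2) (h5 : σ 5 = 5) : σ = 1 := by
  have h3 : σ 3 = 3 := fixed_meet hσ h0 h1 h2 h5 (by decide) (by decide) (by decide +kernel)
    (by decide +kernel) (by decide +kernel)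
  have h8 : σ 8 = 8 := fixed_meet hσ h0 h2 h1 h5 (by decide) (by decide) (by decide +kernel)
    (by decide +kernel) (by decide +kernel)
  have h4 : σ 4 = 4 := fixed_meet hσ h0 h5 h1 h2 (by decide) (by decide) (by decide +kernel)
    (by decide +kernel) (by decide +kernel)
  have h9 : σ 9 = 9 := fixed_meet hσ h0 h1 h4 h8 (by decide) (by decide) (by decide +kernel)
    (by decide +kernel) (by decide +kernel)
  have h12 : σ 12 = 12 := fixed_meet hσ h0 h2 h3 h4 (by decide) (by decide) (by decide +kernel)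
    (by decide +kernel) (by decide +kernel)
  have h7 : σ 7 = 7 := fixed_meet hσ h0 h4 h1 h12 (by decide) (by decide) (by decide +kernel)
    (by decide +kernel) (by decide +kernel)
  have h10 : σ 10 = 10 := fixed_meet hσ h1 h2 h3 h7 (by decide) (by decide) (by decide +kernel)
    (by decide +kernel) (by decide +kernel)
  have h6 : σ 6 = 6 := fixed_meet hσ h0 h10 h1 h5 (by decide) (by decide) (by decide +kernel)
    (by decide +kernel) (by decide +kernel)
  have h11 : σ 11 = 11 := fixed_meet hσ h0 h6 h1 h7 (by decide) (by decide) (by decide +kernel)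
    (by decide +kernel) (by decide +kernel)
  refine Equiv.ext fun x => ?_
  show σ x = x
  fin_cases x <;> assumption

/-- Counting by the image of one point. -/
theorem card_le_mul_stab (K : Subgroup (Equiv.Perm (ZMod 13))) (a : ZMod 13) (S : Finset (ZMod 13))
    (h : ∀ σ ∈ K, σ a ∈ S) :
    Nat.card K ≤ S.card * Nat.card (K ⊓ stabilizer (Equiv.Perm (ZMod 13)) a : Subgroup _) := by
  have hmul := (stabilizer K a).card_mul_index
  have hst : Nat.card (stabilizer K a) =
      Nat.card (K ⊓ stabilizer (Equiv.Perm (ZMod 13)) a : Subgroup _) := by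
    rw [← Subgroup.card_map_of_injective K.subtype_injective]
    refine congrArg (fun H : Subgroup (Equiv.Perm (ZMod 13)) => Nat.card H) ?_
    ext σ
    constructor
    · rintro ⟨τ, hτ, rfl⟩
      exact ⟨τ.2, hτ⟩
    · rintro ⟨hσ, hfix⟩
      exact ⟨⟨σ, hσ⟩, hfix, rfl⟩
  have horb : (stabilizer K a).index ≤ S.card := by
    rw [index_stabilizer, ← Set.ncard_coe_finset]
    refine Set.ncard_le_ncard ?_ S.finite_toSet
    rintro _ ⟨τ, rfl⟩
    exact h τ τ.2
  rw [← hmul, hst, mul_comm]
  exact Nat.mul_le_mul_right _ horb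

/-- There are at most 5616 collineations. -/
theorem card_aut_le : Nat.card Aut ≤ 5616 := by
  set A0 := Aut ⊓ stabilizer (Equiv.Perm (ZMod 13)) (0 : ZMod 13)
  set A1 := A0 ⊓ stabilizer (Equiv.Perm (ZMod 13)) (1 : ZMod 13)
  set A2 := A1 ⊓ stabilizer (Equiv.Perm (ZMod 13)) (2 : ZMod 13)
  set A5 := A2 ⊓ stabilizer (Equiv.Perm (ZMod 13)) (5 : ZMod 13)
  have e0 : Nat.card Aut ≤ 13 * Nat.card A0 :=
    (card_le_mul_stab Aut 0 Finset.univ fun σ _ => Finset.mem_univ _).trans (by simp [A0])
  have e1 : Nat.card A0 ≤ 12 * Nat.card A1 :=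
    card_le_mul_stab A0 1 (Finset.univ.erase 0) fun σ hσ => Finset.mem_erase.2
      ⟨fun h => absurd (σ.injective (h.trans (show σ 0 = 0 from hσ.2).symm)) (by decide),
        Finset.mem_univ _⟩
  have out : ∀ σ : Equiv.Perm (ZMod 13), σ ∈ Aut → ∀ a b x : ZMod 13, a ≠ b → σ a = a → σ b = b →
      x ∉ line (join a b) → σ x ∉ line (join a b) := by
    intro σ hσ a b x hab ha hb hx hσx
    have hinv := Subgroup.inv_mem _ hσ
    have ha' : σ⁻¹ a = a := Equiv.Perm.inv_eq_iff_eq.2 ha.symm
    have hb' : σ⁻¹ b = b := Equiv.Perm.inv_eq_iff_eq.2 hb.symm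
    exact hx (by simpa using mem_of_fixed hinv hab ha' hb' hσx)
  have e2 : Nat.card A1 ≤ 9 * Nat.card A2 :=
    (card_le_mul_stab A1 2 (Finset.univ \ line (join 0 1)) fun σ hσ => Finset.mem_sdiff.2
      ⟨Finset.mem_univ _, out σ hσ.1.1 0 1 2 (by decide) hσ.1.2 hσ.2 (by decide +kernel)⟩).trans
      (by rw [show (Finset.univ \ line (join (0 : ZMod 13) 1)).card = 9 by decide +kernel])
  have e5 : Nat.card A2 ≤ 4 * Nat.card A5 :=
    (card_le_mul_stab A2 5 (Finset.univ \ (line (join 0 1) ∪ line (join 0 2) ∪ line (join 1 2)))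
      fun σ hσ => Finset.mem_sdiff.2 ⟨Finset.mem_univ _, by
        simp only [Finset.mem_union, not_or]
        exact ⟨⟨out σ hσ.1.1.1 0 1 5 (by decide) hσ.1.1.2 hσ.1.2 (by decide +kernel),
          out σ hσ.1.1.1 0 2 5 (by decide) hσ.1.1.2 hσ.2 (by decide +kernel)⟩,
          out σ hσ.1.1.1 1 2 5 (by decide) hσ.1.2 hσ.2 (by decide +kernel)⟩⟩).trans
      (by rw [show (Finset.univ \ (line (join (0 : ZMod 13) 1) ∪ line (join 0 2) ∪ line (join 1 2))).card
        = 4 by decide +kernel])
  have e : Nat.card A5 = 1 := by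
    rw [Subgroup.card_eq_one]
    exact (Subgroup.eq_bot_iff_forall _).2 fun σ hσ =>
      eq_one_of_frame hσ.1.1.1.1 hσ.1.1.1.2 hσ.1.1.2 hσ.1.2 hσ.2
  omega

end CfsgLib.Classification.Order5616.Plane
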