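import Cfsg.Agent.Classification.Order5616.Lines
import Cfsg.Agent.Classification.Order5616.Plane

/-!
# The simple group of order 5616 is unique

With an element of order 13 as translation, the lines of the thirteen points become the translates of
`{0, 1, 3, 9}`, so the group is the full group of collineations.
-/

set_option autoImplicit false
set_option linter.style.haveILetI false

namespace CfsgLib.Classification.Order5616

open CfsgLib.Small CfsgLib.Classification.SmallOrders MulAction
open scoped Pointwise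

variable {G : Type*} [Group G] [Finite G] [IsSimpleGroup G]

theorem pow_mem_spec : ∀ k : Fin 13, ((k : ℕ) * k * k) % 13 = 1 → (k : ℕ) ≠ 1 →
    (k : ℕ) = 3 ∨ (k : ℕ) = 9 := by
  decide +kernel

theorem three_mul_fixed : ∀ i : ZMod 13, 3 * i = i → i = 0 := by decide +kernel

theorem three_mul_ne : ∀ i : ZMod 13, i ≠ 0 → 3 * i ≠ 0 := by decide +kernel

theorem join_succ : ∀ i : ZMod 13, i ≠ i + 1 := by decide +kernel

theorem four_ne : ∀ a : ZMod 13, a ≠ 0 →
    ({0, a, 3 * a, 9 * a} : Finset (ZMod 13)).card = 4 := by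
  decide +kernel

/-- An element of order 13 and one of order 3 acting on it as the cube. -/
theorem exists_frame (hG : ¬ IsMulCommutative G) (hN : Nat.card G = 5616) :
    ∃ x y : G, orderOf x = 13 ∧ y * x * y⁻¹ = x ^ 3 ∧ orderOf y = 3 := by
  haveI : Fact (Nat.Prime 13) := ⟨by norm_num⟩
  haveI : Fact (Nat.Prime 3) := ⟨Nat.prime_three⟩
  obtain ⟨P⟩ : Nonempty (Sylow 13 G) := inferInstance
  obtain ⟨hP, hNc, hC⟩ := sylow_thirteen hG hN P
  obtain ⟨x', hx'⟩ := exists_prime_orderOf_dvd_card' (G := ↥(P : Subgroup G)) 13 (by rw [hP])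
  set x : G := (x' : G) with hxdef
  have hx : orderOf x = 13 := by rw [hxdef, Subgroup.orderOf_coe, hx']
  obtain ⟨y', hy'⟩ := exists_prime_orderOf_dvd_card'
    (G := ↥(Subgroup.normalizer ((P : Subgroup G) : Set G))) 3 (by rw [hNc]; norm_num)
  set y : G := (y' : G) with hydef
  have hy : orderOf y = 3 := by rw [hydef, Subgroup.orderOf_coe, hy']
  have hxP : Subgroup.zpowers x = (P : Subgroup G) :=
    Subgroup.eq_of_le_of_card_ge (Subgroup.zpowers_le.2 x'.2) (by rw [hP, Nat.card_zpowers, hx])
  have hmem : y * x * y⁻¹ ∈ Subgroup.zpowers x := hxP ▸ (Subgroup.mem_normalizer_iff.1 y'.2 x).1 x'.2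
  classical
  rw [mem_zpowers_iff_mem_range_orderOf, Finset.mem_image] at hmem
  obtain ⟨k, hk, hke⟩ := hmem
  rw [Finset.mem_range, hx] at hk
  change x ^ k = y * x * y⁻¹ at hke
  have hstep : ∀ {z : G} {m : ℕ}, z * x * z⁻¹ = x ^ m → ∀ n : ℕ, z * x ^ n * z⁻¹ = x ^ (m * n) :=
    fun {z m} h n => by rw [← conj_pow, h, pow_mul]
  have h2 : y * y * x * (y * y)⁻¹ = x ^ (k * k) := by
    rw [show y * y * x * (y * y)⁻¹ = y * (y * x * y⁻¹) * y⁻¹ by group, ← hke, hstep hke.symm]
  have h3 : x = x ^ (k * k * k) := by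
    have h33 : y * (y * y * x * (y * y)⁻¹) * y⁻¹ = x := by
      have hy3 : y * y * y = 1 := by
        rw [← pow_two, ← pow_succ, show 2 + 1 = 3 from rfl, ← hy, pow_orderOf_eq_one]
      calc y * (y * y * x * (y * y)⁻¹) * y⁻¹ = (y * y * y) * x * (y * y * y)⁻¹ := by group
        _ = x := by rw [hy3]; group
    rw [h2, hstep hke.symm, ← mul_assoc] at h33
    exact h33.symm
  have hk3 : (k * k * k) % 13 = 1 := by
    nth_rewrite 1 [← pow_one x] at h3
    rw [pow_inj_mod, hx] at h3
    omega
  have hk1 : k ≠ 1 := fun h => by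
    rw [h, pow_one] at hke
    have hyC : y ∈ Subgroup.centralizer ((P : Subgroup G) : Set G) := by
      rw [← hxP, Subgroup.zpowers_eq_closure, Subgroup.centralizer_closure,
        Subgroup.mem_centralizer_singleton_iff]
      exact (mul_inv_eq_iff_eq_mul.1 hke.symm)
    rw [hC] at hyC
    have := hP ▸ Subgroup.orderOf_dvd_natCard _ hyC
    rw [hy] at this
    norm_num at this
  rcases pow_mem_spec ⟨k, hk⟩ hk3 hk1 with h | h <;> simp only at h <;> subst h
  · exact ⟨x, y, hx, hke.symm, hy⟩
  · refine ⟨x, y * y, hx, ?_, ?_⟩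
    · rw [h2, pow_inj_mod, hx]
    · rw [← pow_two, orderOf_pow' y two_ne_zero, hy]
      norm_num

/-- A simple group of order 5616 embeds in the collineation group. -/
theorem exists_embedding (hG : ¬ IsMulCommutative G) (hN : Nat.card G = 5616) :
    ∃ f : G →* Equiv.Perm (ZMod 13), Function.Injective f ∧ f.range ≤ Plane.Aut := by
  classical
  obtain ⟨π⟩ := nonempty_para hG hN
  obtain ⟨x, y, hx, hyx, hy⟩ := exists_frame hG hN
  haveI : Fintype π.Pt := Fintype.ofFinite _
  have hcard : Fintype.card π.Pt = 13 := by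
    rw [← Nat.card_eq_fintype_card, ← Subgroup.index_eq_card, π.index_M hN]
  -- a fixed point of `y`
  obtain ⟨o', ho'⟩ : ∃ o' : π.Pt, y • o' = o' := by
    haveI : Fact (Nat.Prime 3) := ⟨Nat.prime_three⟩
    exact Equiv.Perm.exists_fixed_point_of_prime (p := 3) (n := 1) (by rw [hcard]; norm_num)
      (σ := MulAction.toPerm y) (by
        rw [pow_one]
        ext q
        rw [Equiv.Perm.coe_pow, Equiv.Perm.coe_one, id_eq]
        show (fun q => y • q)^[3] q = q
        rw [smul_iterate]
        show y ^ 3 • q = q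
        rw [← hy, pow_orderOf_eq_one, one_smul])
  -- coordinates
  let c : ZMod 13 → π.Pt := fun i => x ^ i.val • o'
  have hmod : ∀ {m n : ℕ}, m % 13 = n % 13 → x ^ m • o' = x ^ n • o' := fun {m n} h => by
    rw [show x ^ m = x ^ n from pow_inj_mod.2 (by rw [hx]; exact h)]
  have hinj : Function.Injective c := by
    intro i j hij
    by_contra hne
    have h1 : (x ^ (j.val + 13 - i.val)) • o' = o' := by
      have h : x ^ (j.val + 13 - i.val) • x ^ i.val • o' = x ^ i.val • o' := by
        rw [smul_smul, ← pow_add, Nat.sub_add_cancel (by have := i.val_lt; omega),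
          show x ^ i.val • o' = x ^ j.val • o' from hij]
        exact hmod (by omega)
      rw [smul_smul, (Commute.pow_pow (Commute.refl x) _ _).eq, ← smul_smul] at h
      exact smul_left_cancel _ h
    have hne' : (j.val + 13 - i.val) % 13 ≠ 0 := by
      have := i.val_lt; have := j.val_lt
      have : i.val ≠ j.val := fun h => hne (ZMod.val_injective 13 h)
      omega
    obtain ⟨g, hg⟩ := π.exists_smul_o o'
    have hM : g⁻¹ * x ^ (j.val + 13 - i.val) * g ∈ π.M := by
      rw [← π.smul_o, mul_smul, mul_smul, hg, h1, ← hg, inv_smul_smul]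
    have hd := Subgroup.orderOf_dvd_natCard _ hM
    rw [π.hM, show g⁻¹ * x ^ (j.val + 13 - i.val) * g = MulAut.conj g⁻¹ (x ^ (j.val + 13 - i.val)) by
      simp, MulEquiv.orderOf_eq, orderOf_pow' x (fun h => hne' (by rw [h])), hx,
      (Nat.Prime.coprime_iff_not_dvd (by norm_num)).2 (fun h => hne' (Nat.mod_eq_zero_of_dvd h))] at hd
    norm_num at hd
  have hsurj : Function.Surjective c :=
    ((Fintype.bijective_iff_injective_and_card c).2 ⟨hinj, by rw [hcard, ZMod.card]⟩).2
  let ψ : ZMod 13 ≃ π.Pt := Equiv.ofBijective c ⟨hinj, hsurj⟩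
  have hx_c : ∀ i j : ZMod 13, x ^ j.val • c i = c (i + j) := fun i j => by
    show x ^ j.val • x ^ i.val • o' = x ^ (i + j).val • o'
    rw [smul_smul, ← pow_add]
    exact hmod (by rw [ZMod.val_add]; omega)
  have hy_c : ∀ i : ZMod 13, y • c i = c (3 * i) := fun i => by
    show y • x ^ i.val • o' = x ^ (3 * i).val • o'
    rw [smul_smul, show y * x ^ i.val = (y * x * y⁻¹) ^ i.val * y by rw [conj_pow]; group, hyx,
      mul_smul, ho', ← pow_mul]
    refine hmod ?_
    rw [ZMod.val_mul, show (3 : ZMod 13).val = 3 from rfl, Nat.mod_mod]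
  have hc0 : c 0 = o' := by
    show x ^ (0 : ZMod 13).val • o' = o'
    rw [ZMod.val_zero, pow_zero, one_smul]
  -- a line through `o'` fixed by `y`
  have hc_ne : ∀ i : ZMod 13, i ≠ 0 → o' ≠ c i := fun i hi h => hi (hinj (hc0.trans h)).symm
  let Ls : Finset (Set π.Pt) := (Finset.univ.erase (0 : ZMod 13)).image fun i => π.lineThrough o' (c i)
  have hLs_mem : ∀ S ∈ Ls, y • S ∈ Ls := by
    intro S hS
    obtain ⟨i, hi, rfl⟩ := Finset.mem_image.1 hS
    rw [π.smul_lineThrough, ho', hy_c]
    refine Finset.mem_image.2 ⟨3 * i, Finset.mem_erase.2 ⟨?_, Finset.mem_univ _⟩, rfl⟩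
    exact three_mul_ne i (Finset.mem_erase.1 hi).1
  have hLs4 : Ls.card = 4 := by
    have hfib : ∀ S ∈ Ls, ((Finset.univ.erase (0 : ZMod 13)).filter
        fun i => π.lineThrough o' (c i) = S).card = 3 := by
      intro S hS
      obtain ⟨i, hi, rfl⟩ := Finset.mem_image.1 hS
      have hne := hc_ne i (Finset.mem_erase.1 hi).1
      have h4 := π.ncard_lineThrough hG hN hne
      have heq : π.lineThrough o' (c i) = insert o' (ψ '' ↑((Finset.univ.erase (0 : ZMod 13)).filter
          fun j => π.lineThrough o' (c j) = π.lineThrough o' (c i))) := by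
        ext z
        constructor
        · intro hz
          by_cases hzo : z = o'
          · exact Or.inl hzo
          obtain ⟨j, rfl⟩ := hsurj z
          have hj : j ≠ 0 := fun h => hzo (h ▸ hc0)
          exact Or.inr ⟨j, Finset.mem_filter.2 ⟨Finset.mem_erase.2 ⟨hj, Finset.mem_univ _⟩,
            π.lineThrough_eq hG hN hne (hc_ne j hj) (Set.mem_insert _ _) hz⟩, rfl⟩
        · rintro (rfl | ⟨j, hj, rfl⟩)
          · exact Set.mem_insert _ _
          · rw [← (Finset.mem_filter.1 hj).2]
            exact Set.mem_insert_of_mem _ (π.mem_arm_self _ _)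
      rw [heq, Set.ncard_insert_of_notMem (by
          rintro ⟨j, hj, hjo⟩
          exact hc_ne j (Finset.mem_erase.1 (Finset.mem_filter.1 hj).1).1 hjo.symm),
        Set.ncard_image_of_injective _ ψ.injective, Set.ncard_coe_finset] at h4
      omega
    have h := Finset.card_eq_sum_card_image (fun i => π.lineThrough o' (c i))
      (Finset.univ.erase (0 : ZMod 13))
    rw [Finset.sum_const_nat hfib, Finset.card_erase_of_mem (Finset.mem_univ _), Finset.card_univ,
      ZMod.card] at h
    change 12 = Ls.card * 3 at h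
    omega
  obtain ⟨S, hS, hyS⟩ : ∃ S ∈ Ls, y • S = S := by
    haveI : Fact (Nat.Prime 3) := ⟨Nat.prime_three⟩
    let σ : Equiv.Perm Ls := Equiv.ofBijective (fun S : Ls => (⟨y • (S : Set π.Pt), hLs_mem _ S.2⟩ : Ls))
      (Finite.injective_iff_bijective.1 fun S T h =>
        Subtype.ext ((MulAction.injective y) (congrArg Subtype.val h)))
    have hσ : σ ^ 3 ^ 1 = 1 := by
      refine Equiv.ext fun S => Subtype.ext ?_
      rw [pow_one]
      show y • y • y • (S : Set π.Pt) = S
      rw [smul_smul, smul_smul, ← pow_two, ← pow_succ, show 2 + 1 = 3 from rfl, ← hy,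
        pow_orderOf_eq_one, one_smul]
    obtain ⟨S, hS⟩ := Equiv.Perm.exists_fixed_point_of_prime (p := 3) (n := 1)
      (by rw [Fintype.card_coe, hLs4]; norm_num) hσ
    exact ⟨S, S.2, congrArg Subtype.val hS⟩
  obtain ⟨a, ha, rfl⟩ := Finset.mem_image.1 hS
  have ha0 : a ≠ 0 := (Finset.mem_erase.1 ha).1
  -- rescaled coordinates
  have hinjmul : Function.Injective fun i : ZMod 13 => i * a := by
    haveI : Fact (Nat.Prime 13) := ⟨by norm_num⟩
    exact mul_left_injective₀ ha0
  let φ : ZMod 13 ≃ π.Pt :=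
    (Equiv.ofBijective _ (Finite.injective_iff_bijective.1 hinjmul)).trans ψ
  have hφ : ∀ i, φ i = c (i * a) := fun i => rfl
  have hbase : π.lineThrough o' (c a) = φ '' ↑Plane.base := by
    have hsub : (c '' ↑({0, a, 3 * a, 9 * a} : Finset (ZMod 13))) ⊆ π.lineThrough o' (c a) := by
      have hin : c a ∈ π.lineThrough o' (c a) := Set.mem_insert_of_mem _ (π.mem_arm_self _ _)
      have hstep : ∀ i, c i ∈ π.lineThrough o' (c a) → c (3 * i) ∈ π.lineThrough o' (c a) := by
        intro i hi
        have h := Set.smul_mem_smul_set (a := y) hi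
        rwa [hyS, hy_c] at h
      have h3 := hstep a hin
      have h9 := hstep _ h3
      rw [← mul_assoc, show (3 : ZMod 13) * 3 = 9 by decide +kernel] at h9
      rintro _ ⟨i, hi, rfl⟩
      simp only [Finset.coe_insert, Finset.coe_singleton, Set.mem_insert_iff,
        Set.mem_singleton_iff] at hi
      rcases hi with rfl | rfl | rfl | rfl
      · exact Or.inl hc0
      exacts [hin, h3, h9]
    have h4 : (c '' ↑({0, a, 3 * a, 9 * a} : Finset (ZMod 13))).ncard = 4 := by
      rw [Set.ncard_image_of_injective _ hinj, Set.ncard_coe_finset, four_ne a ha0]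
    rw [← Set.eq_of_subset_of_ncard_le hsub
      (by rw [h4, π.ncard_lineThrough hG hN (hc_ne a ha0)]) (Set.toFinite _)]
    rw [Plane.base]
    simp only [Finset.coe_insert, Finset.coe_singleton, Set.image_insert_eq, Set.image_singleton,
      hφ, zero_mul, one_mul]
  -- every translate is a line
  have hline : ∀ j : ZMod 13, ∃ u v : π.Pt, u ≠ v ∧ π.lineThrough u v = φ '' ↑(Plane.line j) := by
    intro j
    refine ⟨x ^ (j * a).val • o', x ^ (j * a).val • c a, fun h => hc_ne a ha0 (smul_left_cancel _ h), ?_⟩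
    rw [← π.smul_lineThrough, hbase, Plane.line, Finset.coe_image]
    ext z
    simp only [Set.mem_smul_set, Set.mem_image, Finset.mem_coe]
    constructor
    · rintro ⟨_, ⟨i, hi, rfl⟩, rfl⟩
      exact ⟨i + j, ⟨i, hi, rfl⟩, by rw [hφ, hφ, hx_c, add_mul]⟩
    · rintro ⟨_, ⟨i, hi, rfl⟩, rfl⟩
      exact ⟨_, ⟨i, hi, rfl⟩, by rw [hφ, hφ, hx_c, add_mul]⟩
  -- every line is a translate
  have hlines : ∀ i j : ZMod 13, i ≠ j →
      π.lineThrough (φ i) (φ j) = φ '' ↑(Plane.line (Plane.join i j)) := by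
    intro i j hij
    obtain ⟨u, v, huv, h⟩ := hline (Plane.join i j)
    obtain ⟨hi, hj⟩ := Plane.mem_join i j
    rw [π.lineThrough_eq hG hN huv (φ.injective.ne hij) (h ▸ Set.mem_image_of_mem φ hi)
      (h ▸ Set.mem_image_of_mem φ hj), h]
  -- the embedding
  let f : G →* Equiv.Perm (ZMod 13) :=
    (Equiv.permCongrHom φ.symm).toMonoidHom.comp (MulAction.toPermHom G π.Pt)
  have hf : Function.Injective f :=
    (Equiv.permCongrHom φ.symm).injective.comp (toPermHom_coset_injective (π.M_ne_top hN))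
  refine ⟨f, hf, ?_⟩
  rintro _ ⟨g, rfl⟩ i
  have hfg : ∀ z, φ (f g z) = g • φ z := fun z => φ.apply_symm_apply _
  obtain ⟨p, q, hpq, hsp⟩ : ∃ p q : ZMod 13, p ≠ q ∧ i = Plane.join p q := by
    refine ⟨i, i + 1, join_succ i, ?_⟩
    revert i
    decide +kernel
  refine ⟨Plane.join (f g p) (f g q), ?_⟩
  have h := congrArg (fun S => g • S) (hlines p q hpq)
  simp only [π.smul_lineThrough, ← hfg] at h
  rw [hlines _ _ ((f g).injective.ne hpq), ← hsp] at h
  apply Finset.coe_injective
  rw [Finset.coe_image]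
  refine Set.image_injective.2 φ.injective ?_
  rw [h, Set.image_image]
  ext z
  simp only [Set.mem_smul_set, Set.mem_image, Finset.mem_coe]
  constructor
  · rintro ⟨w, hw, rfl⟩
    exact ⟨_, ⟨w, hw, rfl⟩, (hfg w).symm⟩
  · rintro ⟨_, ⟨w, hw, rfl⟩, rfl⟩
    exact ⟨w, hw, hfg w⟩

/-- Two simple groups of order 5616 are isomorphic. -/
theorem nonempty_mulEquiv {S : Type*} [Group S] [Finite S] [IsSimpleGroup S]
    (hG : Nat.card G = 5616) (hS : Nat.card S = 5616) : Nonempty (G ≃* S) := by
  obtain ⟨f, hf, hfle⟩ := exists_embedding (not_comm_of_card hG (by norm_num)) hG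
  obtain ⟨g, hg, hgle⟩ := exists_embedding (not_comm_of_card hS (by norm_num)) hS
  have e1 : f.range = Plane.Aut := Subgroup.eq_of_le_of_card_ge hfle (by
    rw [← Nat.card_congr (MonoidHom.ofInjective hf).toEquiv, hG]; exact Plane.card_aut_le)
  have e2 : g.range = Plane.Aut := Subgroup.eq_of_le_of_card_ge hgle (by
    rw [← Nat.card_congr (MonoidHom.ofInjective hg).toEquiv, hS]; exact Plane.card_aut_le)
  exact ⟨(MonoidHom.ofInjective hf).trans ((MulEquiv.subgroupCongr (e1.trans e2.symm)).trans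
    (MonoidHom.ofInjective hg).symm)⟩

end CfsgLib.Classification.Order5616
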