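import Cfsg.Agent.Classification.Order5616.Local

/-!
# Simple groups of order 5616: two Sylow 3-subgroups meet in a subgroup of order 9

Otherwise the Sylow 3-subgroup is self-normalising with centre weakly closed, and the transfer to its
abelianisation is nontrivial.
-/

set_option autoImplicit false
set_option linter.style.haveILetI false

namespace CfsgLib.Classification.Order5616

open Cfsg CfsgLib.Small CfsgLib.Classification.SmallOrders
open CfsgLib.Classification.OrderMid MulAction

variable {G : Type*} [Group G] [Finite G]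

section transfer

open Subgroup MonoidHom Function

variable {H : Subgroup G} {A : Type*} [CommGroup A]

/-- The transfer of an element of `H` whose fusion in `H` is invisible to `ϕ`. -/
theorem transfer_eq_pow_of_fusion [H.FiniteIndex] (ϕ : H →* A)
    (hfus : ∀ (x y : H) (g : G), g⁻¹ * (x : G) * g = y → ϕ y = ϕ x) (x : H) :
    MonoidHom.transfer ϕ (x : G) = ϕ x ^ H.index := by
  classical
  letI := H.fintypeQuotientOfFiniteIndex
  rw [MonoidHom.transfer_eq_prod_quotient_orbitRel_zpowers_quot, index_eq_sum_minimalPeriod H (x : G),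
    ← Finset.prod_pow_eq_pow_sum]
  refine Finset.prod_congr rfl fun q _ => ?_
  rw [← map_pow]
  exact hfus (x ^ minimalPeriod ((x : G) • ·) q.out) _ q.out.out (by simp)

end transfer

variable [IsSimpleGroup G]

/-- If distinct Sylow 3-subgroups meet in at most three elements and are self-normalising, then a
simple group of order 5616 does not exist. -/
theorem false_of_small_intersections (hG : ¬ IsMulCommutative G) (hN : Nat.card G = 5616)
    [Fact (Nat.Prime 3)] (P : Sylow 3 G)
    (hPN : Subgroup.normalizer ((P : Subgroup G) : Set G) = (P : Subgroup G))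
    (hsmall : ∀ S T : Sylow 3 G, S ≠ T → Nat.card ((S : Subgroup G) ⊓ T : Subgroup G) ≤ 3) :
    False := by
  classical
  have hN3 : Nat.card G = 3 ^ 3 * 208 := hN
  have h27 : ∀ T : Sylow 3 G, Nat.card (T : Subgroup G) = 27 := fun T =>
    (card_sylow_eq hN3 (by norm_num) T).trans (by norm_num)
  have hdvd : 3 ∣ Nat.card G := by rw [hN]; norm_num
  set PP := (P : Subgroup G) with hPP
  haveI : Nontrivial ↥PP := Finite.one_lt_card_iff_nontrivial.1 (by rw [h27 P]; norm_num)
  haveI := P.2.center_nontrivial
  obtain ⟨j, hj⟩ := IsPGroup.iff_card.1 (P.2.to_subgroup (Subgroup.center ↥PP))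
  obtain ⟨z₀, hz₀⟩ := exists_prime_orderOf_dvd_card' (G := ↥(Subgroup.center ↥PP)) 3 (by
    rw [hj]
    refine dvd_pow_self 3 fun e => ?_
    have := Finite.one_lt_card (α := ↥(Subgroup.center ↥PP))
    rw [hj, e] at this
    simp at this)
  set z : G := ((z₀ : ↥PP) : G) with hzdef
  have hz3 : orderOf z = 3 := by rw [hzdef, Subgroup.orderOf_coe, Subgroup.orderOf_coe, hz₀]
  have hzP : z ∈ PP := (z₀ : ↥PP).2
  have hzc : ∀ x ∈ PP, x * z = z * x := fun x hx =>
    congrArg Subtype.val (Subgroup.mem_center_iff.1 z₀.2 ⟨x, hx⟩)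
  set C := Subgroup.centralizer ({z} : Set G) with hC
  have hPC : PP ≤ C := fun x hx => Subgroup.mem_centralizer_singleton_iff.2 (hzc x hx)
  -- `C(z) = P`
  have hCP : C = PP := by
    obtain ⟨c, hc⟩ := h27 P ▸ Subgroup.card_dvd_of_le hPC
    have hc208 : c ∣ 208 := by
      have h := Subgroup.card_subgroup_dvd_card C
      rw [hc, hN, show 5616 = 27 * 208 from rfl] at h
      exact Nat.dvd_of_mul_dvd_mul_left (by norm_num) h
    have h13 : ¬ 13 ∣ c := fun h => not_thirteen_dvd_centralizer hG hN (a := z)
      (by rw [hz3]; norm_num) (by rw [← hC, hc]; exact h.mul_left 27)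
    have hc16 : c ∣ 16 := ((Nat.Prime.coprime_iff_not_dvd (by norm_num)).2 h13).symm.dvd_of_dvd_mul_left
      (show c ∣ 13 * 16 from hc208)
    have h3c : ¬ 3 ∣ c := fun h => by
      have := h.trans hc16
      norm_num at this
    have hC3 : Nat.card C = 3 ^ 3 * c := hc.trans (by norm_num)
    have h1 : Nat.card (Sylow 3 C) = 1 := by
      by_contra hne
      have hd := card_sylow_dvd hC3 h3c
      have hm := card_sylow_mod (G := C) 3
      have hle := Nat.le_of_dvd (by norm_num) (hd.trans hc16)
      have hnot : ¬ Nat.card (Sylow 3 C) ≡ 1 [MOD 3 ^ 2] := by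
        have hd16 := mem_divisors_of_dvd (hd.trans hc16) (by norm_num)
        rw [show Nat.divisors 16 = {1, 2, 4, 8, 16} by decide +kernel] at hd16
        simp only [Finset.mem_insert, Finset.mem_singleton] at hd16
        rw [Nat.ModEq]
        omega
      obtain ⟨S, T, hST, hidx⟩ := exists_sylow_small_index (p := 3) (G := C) 2 hnot
      rw [show 2 - 1 = 1 from rfl, pow_one] at hidx
      have hS : ∀ U : Sylow 3 C, Nat.card (U : Subgroup C) = 27 := fun U =>
        (card_sylow_eq hC3 h3c U).trans (by norm_num)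
      have hmap : ∀ U : Sylow 3 C, Nat.card ((U : Subgroup C).map C.subtype) =
          3 ^ (Nat.card G).factorization 3 := fun U => by
        rw [Subgroup.card_map_of_injective C.subtype_injective, hS, ← h27 P]
        exact P.card_eq_multiplicity
      let S' : Sylow 3 G := Sylow.ofCard _ (hmap S)
      let T' : Sylow 3 G := Sylow.ofCard _ (hmap T)
      have hne' : S' ≠ T' := fun e => hST (Sylow.ext (Subgroup.map_injective C.subtype_injective
        (congrArg (fun U : Sylow 3 G => (U : Subgroup G)) e)))
      have h3 := hsmall S' T' hne'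
      rw [show ((S' : Subgroup G) ⊓ T' : Subgroup G) = ((S : Subgroup C) ⊓ T).map C.subtype from
        (Subgroup.map_inf _ _ _ C.subtype_injective).symm,
        Subgroup.card_map_of_injective C.subtype_injective] at h3
      have h := ((T : Subgroup C).subgroupOf (S : Subgroup C)).card_mul_index
      rw [← Subgroup.card_map_of_injective (S : Subgroup C).subtype_injective,
        Subgroup.subgroupOf_map_subtype, inf_comm, hS S] at h
      have h33 := Nat.mul_le_mul h3 hidx
      rw [h] at h33
      norm_num at h33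
    exact le_antisymm ((le_normalizer_of_card_sylow_one P hPC h1).trans hPN.le) hPC
  -- conjugates of `z` are central in the Sylow subgroups containing them
  have hcentral : ∀ (k : G) (T : Sylow 3 G), k * z * k⁻¹ ∈ (T : Subgroup G) →
      (T : Subgroup G) = Subgroup.centralizer ({k * z * k⁻¹} : Set G) := by
    intro k T hw
    set w := k * z * k⁻¹ with hwdef
    have hCw : ∀ x : G, x ∈ Subgroup.centralizer ({w} : Set G) ↔ k⁻¹ * x * k ∈ PP := by
      intro x
      rw [← hCP, hC, Subgroup.mem_centralizer_singleton_iff, Subgroup.mem_centralizer_singleton_iff,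
        hwdef]
      constructor
      · intro h
        calc k⁻¹ * x * k * z = k⁻¹ * (x * (k * z * k⁻¹)) * k := by group
          _ = k⁻¹ * (k * z * k⁻¹ * x) * k := by rw [h]
          _ = z * (k⁻¹ * x * k) := by group
      · intro h
        calc x * (k * z * k⁻¹) = k * (k⁻¹ * x * k * z) * k⁻¹ := by group
          _ = k * (z * (k⁻¹ * x * k)) * k⁻¹ := by rw [h]
          _ = k * z * k⁻¹ * x := by group
    set U : Sylow 3 G := k • P with hU
    have hUw : (U : Subgroup G) = Subgroup.centralizer ({w} : Set G) := by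
      ext x
      rw [hU, Sylow.smul_def, Sylow.pointwise_smul_def, Subgroup.mem_pointwise_smul_iff_inv_smul_mem,
        hCw]
      show (MulAut.conj k)⁻¹ x ∈ PP ↔ _
      simp
    rcases eq_or_ne T U with rfl | hne
    · exact hUw
    exfalso
    have h3 := hsmall T U hne
    rw [hUw] at h3
    haveI : Nontrivial ↥(T : Subgroup G) :=
      Finite.one_lt_card_iff_nontrivial.1 (by rw [h27 T]; norm_num)
    haveI := T.2.center_nontrivial
    set Z := (Subgroup.center ↥(T : Subgroup G)).map (T : Subgroup G).subtype with hZ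
    have hZle : Z ≤ (T : Subgroup G) ⊓ Subgroup.centralizer ({w} : Set G) := by
      rintro _ ⟨v, hv, rfl⟩
      exact ⟨v.2, Subgroup.mem_centralizer_singleton_iff.2
        (congrArg Subtype.val (Subgroup.mem_center_iff.1 hv ⟨w, hw⟩)).symm⟩
    have hZ3 : 3 ≤ Nat.card Z := by
      rw [hZ, Subgroup.card_map_of_injective (T : Subgroup G).subtype_injective]
      obtain ⟨i, hi⟩ := IsPGroup.iff_card.1 (T.2.to_subgroup (Subgroup.center ↥(T : Subgroup G)))
      have := Finite.one_lt_card (α := ↥(Subgroup.center ↥(T : Subgroup G)))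
      rw [hi] at this ⊢
      exact Nat.le_self_pow (fun e => by rw [e] at this; simp at this) 3
    have hZeq := Subgroup.eq_of_le_of_card_ge hZle (by omega)
    have hwZ : w ∈ Z := hZeq ▸ (⟨hw, Subgroup.mem_centralizer_singleton_iff.2 rfl⟩ :
      w ∈ (T : Subgroup G) ⊓ Subgroup.centralizer ({w} : Set G))
    obtain ⟨v, hv, hve⟩ := hwZ
    have hTle : (T : Subgroup G) ≤ (U : Subgroup G) := by
      rw [hUw]
      intro x hx
      rw [Subgroup.mem_centralizer_singleton_iff, ← hve]
      exact congrArg Subtype.val (Subgroup.mem_center_iff.1 hv ⟨x, hx⟩)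
    exact hne (Sylow.ext (Subgroup.eq_of_le_of_card_ge hTle (by rw [h27, h27])))
  -- fusion in `P` is trivial modulo the derived subgroup
  have hfus : ∀ (x y : PP) (g : G), g⁻¹ * (x : G) * g = y →
      Abelianization.of y = Abelianization.of x := by
    intro x y g hxy
    set Cy := Subgroup.centralizer ({(y : G)} : Set G) with hCy
    have hzy : z ∈ Cy := Subgroup.mem_centralizer_singleton_iff.2 (hzc y y.2).symm
    have hw : g⁻¹ * z * g ∈ Cy := Subgroup.mem_centralizer_singleton_iff.2 (by
      rw [← hxy]
      calc g⁻¹ * z * g * (g⁻¹ * x * g) = g⁻¹ * (z * x) * g := by group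
        _ = g⁻¹ * (x * z) * g := by rw [hzc x x.2]
        _ = g⁻¹ * x * g * (g⁻¹ * z * g) := by group)
    have hp : ∀ u : Cy, orderOf (u : G) = 3 → IsPGroup 3 (Subgroup.zpowers u) := fun u hu =>
      IsPGroup.of_card (n := 1) (by rw [Nat.card_zpowers, ← Subgroup.orderOf_coe, hu, pow_one])
    obtain ⟨S, hS⟩ := (hp ⟨z, hzy⟩ hz3).exists_le_sylow
    obtain ⟨S', hS'⟩ := (hp ⟨_, hw⟩ (by
      show orderOf (g⁻¹ * z * g) = 3
      rw [show g⁻¹ * z * g = MulAut.conj g⁻¹ z by simp, MulEquiv.orderOf_eq, hz3])).exists_le_sylow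
    obtain ⟨h, hh⟩ := MulAction.exists_smul_eq Cy S' S
    obtain ⟨T, hT⟩ := (S.2.map Cy.subtype).exists_le_sylow
    have hzT : z ∈ (T : Subgroup G) := hT ⟨_, hS (Subgroup.mem_zpowers _), rfl⟩
    set k := (h : G) * g⁻¹ with hk
    have hz'T : k * z * k⁻¹ ∈ (T : Subgroup G) := by
      refine hT ⟨h * ⟨_, hw⟩ * h⁻¹, ?_, ?_⟩
      · rw [SetLike.mem_coe, ← hh, Sylow.smul_def]
        exact Subgroup.smul_mem_pointwise_smul (⟨_, hw⟩ : Cy) (MulAut.conj h) _
          (hS' (Subgroup.mem_zpowers _))
      · show (h : G) * (g⁻¹ * z * g) * (h : G)⁻¹ = _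
        rw [hk]
        group
    have hTP : (T : Subgroup G) = PP := by
      have h1 := hcentral 1 T (by simpa using hzT)
      rwa [show (1 : G) * z * 1⁻¹ = z by group, ← hC, hCP] at h1
    have hPk : PP = Subgroup.centralizer ({k * z * k⁻¹} : Set G) := hTP ▸ hcentral k T hz'T
    -- `k` normalises `P`
    have hkN : k ∈ PP := by
      rw [← hPN, Subgroup.mem_normalizer_iff]
      intro u
      have he : u ∈ PP ↔ k * u * k⁻¹ ∈ PP := by
        conv_rhs => rw [hPk, Subgroup.mem_centralizer_singleton_iff]
        rw [← hCP, hC, Subgroup.mem_centralizer_singleton_iff]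
        constructor
        · intro hu
          calc k * u * k⁻¹ * (k * z * k⁻¹) = k * (u * z) * k⁻¹ := by group
            _ = k * (z * u) * k⁻¹ := by rw [hu]
            _ = k * z * k⁻¹ * (k * u * k⁻¹) := by group
        · intro hu
          calc u * z = k⁻¹ * (k * u * k⁻¹ * (k * z * k⁻¹)) * k := by group
            _ = k⁻¹ * (k * z * k⁻¹ * (k * u * k⁻¹)) * k := by rw [hu]
            _ = z * u := by group
      exact he
    have hy : (y : G) = k * x * k⁻¹ := by
      have hhy := Subgroup.mem_centralizer_singleton_iff.1 h.2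
      calc (y : G) = (h : G) * y * (h : G)⁻¹ := by rw [hhy, mul_inv_cancel_right]
        _ = k * x * k⁻¹ := by rw [← hxy, hk]; group
    have hy' : y = ⟨k, hkN⟩ * x * (⟨k, hkN⟩ : PP)⁻¹ := Subtype.ext hy
    rw [hy', map_mul, map_mul, map_inv, mul_comm (Abelianization.of (⟨k, hkN⟩ : PP)),
      mul_inv_cancel_right]
  -- the transfer
  haveI : PP.FiniteIndex := inferInstance
  set τ := MonoidHom.transfer (Abelianization.of : PP →* Abelianization PP) with hτ
  have hidx : PP.index = 208 := by
    have h := PP.card_mul_index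
    rw [h27 P, hN] at h
    omega
  have hker : τ.ker = ⊤ := by
    rcases (MonoidHom.normal_ker τ).eq_bot_or_eq_top with h | h
    · exact absurd ⟨⟨fun a b => (MonoidHom.ker_eq_bot_iff _).1 h (by rw [map_mul, map_mul, mul_comm])⟩⟩ hG
    · exact h
  have hall : ∀ x : PP, Abelianization.of x = 1 := by
    intro x
    have h1 : τ (x : G) = 1 := MonoidHom.mem_ker.1 (hker ▸ Subgroup.mem_top _)
    rw [hτ, transfer_eq_pow_of_fusion _ hfus, hidx] at h1
    have h2 : (Abelianization.of x) ^ 27 = 1 := by
      rw [← map_pow, show x ^ 27 = 1 from h27 P ▸ pow_card_eq_one', map_one]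
    calc Abelianization.of x = (Abelianization.of x) ^ (208 * 10) := by
          rw [show 208 * 10 = 27 * 77 + 1 from rfl, pow_succ, pow_mul, h2, one_pow, one_mul]
      _ = 1 := by rw [pow_mul, h1, one_pow]
  have hcomm : commutator PP = ⊤ := by
    refine eq_top_iff.2 fun x _ => ?_
    have := hall x
    rwa [← MonoidHom.mem_ker, Abelianization.ker_of] at this
  haveI : Group.IsNilpotent PP := P.2.isNilpotent
  exact absurd hcomm (ne_of_lt (IsSolvable.commutator_lt_top_of_nontrivial PP))

/-- A subgroup of order 9 in two Sylow 3-subgroups. -/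
theorem exists_nine (hG : ¬ IsMulCommutative G) (hN : Nat.card G = 5616) [Fact (Nat.Prime 3)] :
    ∃ (D : Subgroup G) (P R : Sylow 3 G), Nat.card D = 9 ∧ P ≠ R ∧ D ≤ (P : Subgroup G) ∧
      D ≤ (R : Subgroup G) := by
  classical
  have hN3 : Nat.card G = 3 ^ 3 * 208 := hN
  have hn := card_sylow_mem hG hN3 (by norm_num) (by norm_num)
  rw [show (Nat.divisors 208).filter (fun d => d % 3 = 1 ∧ d ≠ 1) = {4, 13, 16, 52, 208} by
    decide +kernel] at hn
  simp only [Finset.mem_insert, Finset.mem_singleton] at hn
  by_cases h9 : Nat.card (Sylow 3 G) % (3 * 3) = 1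
  · have h208 : Nat.card (Sylow 3 G) = 208 := by omega
    obtain ⟨P⟩ : Nonempty (Sylow 3 G) := inferInstance
    have h27 : ∀ T : Sylow 3 G, Nat.card (T : Subgroup G) = 27 := fun T =>
      (card_sylow_eq hN3 (by norm_num) T).trans (by norm_num)
    by_contra hno
    push Not at hno
    refine false_of_small_intersections hG hN P ?_ fun S T hST => ?_
    · refine (Subgroup.eq_of_le_of_card_ge Subgroup.le_normalizer ?_).symm
      have := card_sylow_mul_card_normalizer P
      rw [h208, hN] at this
      rw [h27]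
      omega
    · by_contra h3
      refine hno _ S T (card_inf_of_ne (h27 S) (h27 T) (fun e => hST (Sylow.ext e)) (by omega))
        hST inf_le_left inf_le_right
  · obtain ⟨D, P, R, c, d, hPR, hD, hDP, hPM, hRM, -⟩ :=
      exists_inter_normalizer hG hN3 (by norm_num) (by norm_num) h9
    refine ⟨D, P, R, by rw [hD]; norm_num, hPR, hDP, ?_⟩
    have hDp : IsPGroup 3 D := IsPGroup.of_card (n := 2) (by rw [hD])
    exact le_sup_right.trans_eq (R.3 (IsPGroup.to_sup_of_normal_right' R.2 hDp hRM) le_sup_left)

end CfsgLib.Classification.Order5616
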