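import Cfsg.Agent.Classification.OrderMid.InvolutionOne
import Cfsg.Agent.Classification.OrderMid.Option
import Cfsg.Agent.Characters.DefectZero
import Cfsg.Agent.Small.DegreeSmall

/-!
# Simple groups of order 5616: the 13-local data and involutions

The Sylow 13-normaliser has order 39, and no involution centralises a subgroup of order 9, because
the defect zero character of degree 27 vanishes on all elements of order divisible by 3.
-/

set_option autoImplicit false
set_option linter.style.haveILetI false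

namespace CfsgLib.Classification.Order5616

open Cfsg CfsgLib.Small CfsgLib.Classification.SmallOrders CfsgLib.Classification.OrderRange
open CfsgLib.Classification.OrderMid CfsgLib.Characters

variable {G : Type*} [Group G] [Finite G] [IsSimpleGroup G]

/-- The Sylow 13-subgroups: 144 of them, self-centralising, with normaliser of order 39. -/
theorem sylow_thirteen (hG : ¬ IsMulCommutative G) (hN : Nat.card G = 5616)
    [Fact (Nat.Prime 13)] (P : Sylow 13 G) : Nat.card (P : Subgroup G) = 13 ∧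
      Nat.card (Subgroup.normalizer ((P : Subgroup G) : Set G)) = 13 * 3 ∧
      Subgroup.centralizer ((P : Subgroup G) : Set G) = (P : Subgroup G) := by
  have hN' : Nat.card G = 13 ^ 1 * 432 := hN
  have hP : Nat.card (P : Subgroup G) = 13 := by simpa using card_sylow_eq hN' (by norm_num) P
  have hn := card_sylow_mem hG hN' one_ne_zero (by norm_num)
  rw [show (Nat.divisors 432).filter (fun d => d % 13 = 1 ∧ d ≠ 1) = {27, 144} by decide +kernel,
    Finset.mem_insert, Finset.mem_singleton] at hn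
  have h144 : Nat.card (Sylow 13 G) = 144 := by
    rcases hn with h | h
    · exact (false_of_optionKilled hG (by norm_num) P hP hN (by norm_num)
        (by rw [h]; decide +kernel)).elim
    · exact h
  have hNc : Nat.card (Subgroup.normalizer ((P : Subgroup G) : Set G)) = 13 * 3 := by
    have := card_sylow_mul_card_normalizer P
    rw [h144, hN] at this
    omega
  exact ⟨hP, hNc, Degree.centralizer_eq_of_relIndex hG P hP hNc (by decide +kernel)⟩

/-- An element commuting with an element of order 13 has order 1 or 13. -/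
theorem orderOf_dvd_thirteen (hG : ¬ IsMulCommutative G) (hN : Nat.card G = 5616) {x a : G}
    (hx : orderOf x = 13) (hax : a * x = x * a) : orderOf a ∣ 13 := by
  haveI : Fact (Nat.Prime 13) := ⟨by norm_num⟩
  obtain ⟨Q, hQ⟩ := (IsPGroup.of_card (n := 1) (by rw [Nat.card_zpowers, hx, pow_one]) :
    IsPGroup 13 (Subgroup.zpowers x)).exists_le_sylow
  obtain ⟨hQc, -, hC⟩ := sylow_thirteen hG hN Q
  have hxQ : Subgroup.zpowers x = (Q : Subgroup G) :=
    Subgroup.eq_of_le_of_card_ge hQ (by rw [hQc, Nat.card_zpowers, hx])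
  have ha : a ∈ (Q : Subgroup G) := by
    rw [← hC, ← hxQ, Subgroup.zpowers_eq_closure, Subgroup.centralizer_closure,
      Subgroup.mem_centralizer_singleton_iff]
    exact hax
  exact hQc ▸ Subgroup.orderOf_dvd_natCard _ ha

/-- 13 divides no centraliser of a nontrivial element of order prime to 13. -/
theorem not_thirteen_dvd_centralizer (hG : ¬ IsMulCommutative G) (hN : Nat.card G = 5616) {a : G}
    (ha : ¬ orderOf a ∣ 13) : ¬ 13 ∣ Nat.card (Subgroup.centralizer ({a} : Set G)) := fun h => by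
  haveI : Fact (Nat.Prime 13) := ⟨by norm_num⟩
  obtain ⟨x, hx⟩ := exists_prime_orderOf_dvd_card' (G := ↥(Subgroup.centralizer ({a} : Set G))) 13 h
  exact ha (orderOf_dvd_thirteen hG hN (x := (x : G)) (by rw [Subgroup.orderOf_coe, hx])
    (Subgroup.mem_centralizer_singleton_iff.1 x.2).symm)

set_option synthInstance.maxSize 1024 in
theorem degree_lists : ∀ n : ℕ, n < 75 → 1 < n → n ∣ 5616 →
    ((n % 13 = 1 ∨ n % 13 = 12) → n = 12 ∨ n = 27) ∧
    ((n % 13 = 3 ∨ n % 13 = 10) → n ≤ 37 → n = 3 ∨ n = 16 ∨ n = 36) := by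
  decide +kernel

set_option synthInstance.maxSize 1024 in
theorem values_solve : ∀ i : Fin 11, ∀ w ∈ [(-9 : ℤ), 9], ∀ j : Fin 15,
    2 * ((i : ℤ) - 5) ≠ 12 →
    4 * (j : ℤ) - 28 = 1 - 2 * ((i : ℤ) - 5) + w →
    432 - 36 * (2 * ((i : ℤ) - 5)) ^ 2 + 16 * w ^ 2 - 27 * (4 * (j : ℤ) - 28) ^ 2 = 0 →
    182 ≤ 1 + (2 * ((i : ℤ) - 5)) ^ 2 + w ^ 2 + 4 * (4 * (j : ℤ) - 28) ^ 2 := by
  decide +kernel

/-- The degree 27 character at an involution: congruence to `27` modulo twice the order of any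
3-subgroup it centralises, and the size of the centraliser when that is `± 9`. -/
theorem exists_value (hG : ¬ IsMulCommutative G) (hN : Nat.card G = 5616) {t : G}
    (ht : orderOf t = 2) : ∃ w : ℤ, -27 < w ∧ w < 27 ∧
      ((w = 9 ∨ w = -9) → 182 ≤ Nat.card (Subgroup.centralizer ({t} : Set G))) ∧
      ∀ H : Subgroup G, H ≤ Subgroup.centralizer ({t} : Set G) → IsPGroup 3 H →
        (2 * Nat.card H : ℤ) ∣ 27 + w := by
  classical
  haveI := Fintype.ofFinite G
  haveI : Fact (Nat.Prime 13) := ⟨by norm_num⟩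
  obtain ⟨P⟩ : Nonempty (Sylow 13 G) := inferInstance
  obtain ⟨hP, hNc, hC⟩ := sylow_thirteen hG hN P
  obtain ⟨l, σ, β, d, y, hσ, hn2, hdeg, hy, hl, ⟨hd1, hd2, hd3, hd4, hd5, hd6⟩, hsq, hcol, heq⟩ :=
    exists_involution_equation_one_le hG (P : Subgroup G) hP hC 3 4 hNc (by norm_num) (by norm_num)
      (by norm_num) ht
  have hno : ¬ ∃ u : G, u ∈ Subgroup.normalizer ((P : Subgroup G) : Set G) ∧ IsConj t u := by
    rintro ⟨u, hu, hconj⟩
    obtain ⟨g, rfl⟩ := isConj_iff.1 hconj
    have := Subgroup.orderOf_dvd_natCard _ hu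
    rw [orderOf_conj_eq, ht, hNc] at this
    norm_num at this
  rw [if_neg hno, hN] at heq
  rw [hN] at hd2 hsq
  push_cast at hn2 hd3 hdeg hy
  have hlen := Degree.length_le_sum_sq fun r hr => (hl r hr).1
  have hl0 : 0 ≤ (l.map fun r => r.1 * r.1).sum := le_trans (Int.natCast_nonneg _) hlen
  have hσ2 : σ * σ = 1 := by rcases hσ with rfl | rfl <;> norm_num
  have hβ : β = 0 := by
    by_contra hb
    have hb1 : -1 ≤ β ∧ β ≤ 1 := by constructor <;> rcases hσ with rfl | rfl <;> nlinarith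
    have hsum : (l.map fun r => r.1 * r.1).sum = 0 ∧ β = -σ := by
      rcases (show β = -1 ∨ β = 1 by omega) with rfl | rfl <;> rcases hσ with rfl | rfl <;> omega
    have hnil : l = [] := List.eq_nil_of_length_eq_zero (by omega)
    rw [hnil, hsum.2] at hdeg
    simp only [List.map_nil, List.sum_nil] at hdeg
    rcases hσ with rfl | rfl <;> omega
  subst hβ
  obtain _ | ⟨a, _ | ⟨b, _ | ⟨e, tl⟩⟩⟩ := l
  · simp at hn2
  · simp only [List.map_cons, List.map_nil, List.sum_cons, List.sum_nil, add_zero] at hn2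
    have h2 : a.1 * a.1 = 2 := by linarith
    have hle : -1 ≤ a.1 ∧ a.1 ≤ 1 := by constructor <;> nlinarith
    rcases (show a.1 = -1 ∨ a.1 = 0 ∨ a.1 = 1 by omega) with h | h | h <;> simp [h] at h2
  swap
  · simp only [List.length_cons] at hlen
    push_cast at hlen hn2
    omega
  obtain ⟨ha0, ha1, ha2, ha3, ha4, ha5, ha6, χa, hχa1, hχat⟩ := hl a List.mem_cons_self
  obtain ⟨hb0, hb1, hb2, hb3, hb4, hb5, hb6, χb, hχb1, hχbt⟩ :=
    hl b (List.mem_cons_of_mem _ List.mem_cons_self)
  obtain ⟨a, na, va⟩ := a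
  obtain ⟨b, nb, vb⟩ := b
  simp only [List.map_cons, List.map_nil, List.sum_cons, List.sum_nil, add_zero] at hn2 hdeg hy hsq hcol heq
  simp only at ha0 ha1 ha2 ha3 ha4 ha5 ha6 hb0 hb1 hb2 hb3 hb4 hb5 hb6 hχa1 hχat hχb1 hχbt
  rw [hN] at ha2 hb2
  push_cast at ha3 hb3 hcol
  have hab : (a = 1 ∨ a = -1) ∧ (b = 1 ∨ b = -1) := by
    have := mul_self_pos.2 ha0
    have := mul_self_pos.2 hb0
    exact ⟨Degree.unit_of_sq_one (by linarith), Degree.unit_of_sq_one (by linarith)⟩
  have hna : na = 12 ∨ na = 27 := (degree_lists na (by nlinarith) ha1 ha2).1 (by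
    rcases hab.1 with rfl | rfl <;> omega)
  have hnb : nb = 12 ∨ nb = 27 := (degree_lists nb (by nlinarith) hb1 hb2).1 (by
    rcases hab.2 with rfl | rfl <;> omega)
  have hdd : d = 3 ∨ d = 16 ∨ d = 36 := (degree_lists d (by nlinarith) hd1 hd2).2 (by
    rcases hσ with rfl | rfl <;> omega) (by nlinarith)
  -- the signs
  obtain ⟨v, w, hv4, hw4, hw5, hw6, hrel, heq', hcol', χ, hχ1, hχt⟩ :
      ∃ v w : ℤ, (2 : ℤ) ∣ v ∧ 2 ∣ 27 - w ∧ -27 < w ∧ w < 27 ∧ y = 1 - v + w ∧
        (432 - 36 * v ^ 2 + 16 * w ^ 2 - 27 * y ^ 2 = 0 ∧ -12 < v ∧ v < 12 ∧ d = 16) ∧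
        1 + v ^ 2 + w ^ 2 + 4 * y ^ 2 ≤ (Nat.card (Subgroup.centralizer ({t} : Set G)) : ℤ) ∧
        ∃ χ : IrrCharacter G, (χ : G → ℂ) 1 = (27 : ℕ) ∧ (χ : G → ℂ) t = w := by
    have key : d = 16 ∧ σ = -1 ∧ ((a = -1 ∧ na = 12 ∧ b = 1 ∧ nb = 27) ∨
        (b = -1 ∧ nb = 12 ∧ a = 1 ∧ na = 27)) := by
      rcases hna with rfl | rfl <;> rcases hnb with rfl | rfl <;> rcases hdd with rfl | rfl | rfl <;>
        rcases hσ with rfl | rfl <;> rcases hab.1 with rfl | rfl <;>
        rcases hab.2 with rfl | rfl <;> omega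
    obtain ⟨rfl, rfl, ⟨rfl, rfl, rfl, rfl⟩ | ⟨rfl, rfl, rfl, rfl⟩⟩ := key
    · refine ⟨va, vb, by omega, hb4, hb5, hb6, by linarith, ⟨?_, ha5, ha6, rfl⟩, by linarith,
        χb, hχb1, hχbt⟩
      have h : (432 : ℚ) - 36 * (va : ℚ) ^ 2 + 16 * (vb : ℚ) ^ 2 - 27 * (y : ℚ) ^ 2 = 0 := by
        push_cast at heq
        linarith
      exact_mod_cast h
    · refine ⟨vb, va, by omega, ha4, ha5, ha6, by linarith, ⟨?_, hb5, hb6, rfl⟩, by linarith,
        χa, hχa1, hχat⟩
      have h : (432 : ℚ) - 36 * (vb : ℚ) ^ 2 + 16 * (va : ℚ) ^ 2 - 27 * (y : ℚ) ^ 2 = 0 := by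
        push_cast at heq
        linarith
      exact_mod_cast h
  obtain ⟨heq', hv5, hv6, hd16⟩ := heq'
  refine ⟨w, hw5, hw6, fun hw9 => ?_, fun H hH hH3 => ?_⟩
  · obtain ⟨i, hi⟩ : ∃ i : Fin 11, v = 2 * ((i : ℤ) - 5) :=
      ⟨⟨(v / 2 + 5).toNat, by omega⟩, by simp only; omega⟩
    have hy4 : (4 : ℤ) ∣ y := by
      -- the equation modulo 16 and the parity of `y`
      have h2 : (2 : ℤ) ∣ y := by
        rw [hd16] at hd4
        omega
      obtain ⟨z, rfl⟩ := h2
      rcases hw9 with rfl | rfl <;> rw [hi] at heq' hrel <;>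
      · have : (2 : ℤ) ∣ 27 * z ^ 2 := ⟨-18 * ((i : ℤ) - 5) ^ 2 + 216, by linarith⟩
        have hz : (2 : ℤ) ∣ z := by
          have h27 : (2 : ℤ) ∣ z ^ 2 := by omega
          exact Int.Prime.dvd_pow' Nat.prime_two h27
        omega
    have hyb : -16 < y ∧ y < 16 := by rw [hd16] at hd5 hd6; exact ⟨hd5, hd6⟩
    obtain ⟨j, hj⟩ : ∃ j : Fin 15, y = 4 * (j : ℤ) - 28 :=
      ⟨⟨(y / 4 + 7).toNat, by omega⟩, by simp only; omega⟩
    rw [hi, hj] at heq' hrel hcol'
    have h := values_solve i w (by rcases hw9 with rfl | rfl <;> simp) j (by rw [← hi]; omega) hrel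
      heq'
    exact_mod_cast h.trans hcol'
  · -- the restriction to `H × ⟨t⟩`
    obtain ⟨n, ρ, hρ, hρχ⟩ := χ.2
    have hdim : Module.finrank ℂ (Fin n → ℂ) = 27 := by
      have h := hχ1
      rw [← hρχ, Representation.char_one] at h
      exact_mod_cast h
    haveI := hρ
    have hvan : ∀ g : G, 3 ∣ orderOf g → (χ : G → ℂ) g = 0 := fun g hg => by
      rw [← hρχ]
      exact char_eq_zero_of_defect_zero ρ Nat.prime_three (n := 3) (by rw [hN]; norm_num)
        (by rw [hN]; norm_num) (by rw [hdim]; norm_num) g hg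
    have htH : ∀ h ∈ H, t * h = h * t := fun h hh =>
      (Subgroup.mem_centralizer_singleton_iff.1 (hH hh)).symm
    have hcomm : ∀ (a : H) (b : Subgroup.zpowers t), Commute (H.subtype a) ((Subgroup.zpowers t).subtype b) :=
      fun a b => by
        obtain ⟨k, hk⟩ := b.2
        show Commute (a : G) (b : G)
        rw [← hk]
        exact Commute.zpow_right (show Commute (a : G) t from (htH a a.2).symm) k
    let f : H × Subgroup.zpowers t →* G :=
      H.subtype.noncommCoprod (Subgroup.zpowers t).subtype hcomm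
    have hf : ∀ a b, f (a, b) = (a : G) * b := fun a b => rfl
    haveI : Fintype H := Fintype.ofFinite H
    haveI : Fintype (Subgroup.zpowers t) := Fintype.ofFinite _
    obtain ⟨m, hm⟩ := classInner_characters
      (isCharacter_comp f (isCharacter_of_isIrr χ.2))
      (isCharacter_one (G := H × Subgroup.zpowers t))
    have hval : ∀ (a : H) (b : Subgroup.zpowers t), a ≠ 1 → (χ : G → ℂ) (f (a, b)) = 0 := by
      intro a b ha
      refine hvan _ ?_
      rw [hf]
      have hco : (orderOf (a : G)).Coprime (orderOf (b : G)) := by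
        obtain ⟨j, hj⟩ := (IsPGroup.iff_orderOf.1 hH3) a
        rw [Subgroup.orderOf_coe, Subgroup.orderOf_coe, hj]
        refine Nat.Coprime.pow_left j (Nat.Coprime.coprime_dvd_right ?_ (by norm_num : Nat.Coprime 3 2))
        have hb := orderOf_dvd_natCard b
        rwa [Nat.card_zpowers, ht] at hb
      rw [(show Commute (a : G) (b : G) from hcomm a b).orderOf_mul_eq_mul_orderOf_of_coprime hco,
        Subgroup.orderOf_coe a]
      refine Dvd.dvd.mul_right ?_ _
      obtain ⟨j, hj⟩ := (IsPGroup.iff_orderOf.1 hH3) a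
      rw [hj]
      refine dvd_pow_self 3 fun e => ha (orderOf_eq_one_iff.1 ?_)
      rw [hj, e, pow_zero]
    have hcardK : Nat.card (H × Subgroup.zpowers t) = 2 * Nat.card H := by
      rw [Nat.card_prod, Nat.card_zpowers, ht, mul_comm]
    have hsum : ∑ p : H × Subgroup.zpowers t, (χ : G → ℂ) (f p) = 27 + (w : ℂ) := by
      rw [Fintype.sum_prod_type, Finset.sum_eq_single (1 : H)
        (fun a _ ha => Finset.sum_eq_zero fun b _ => hval a b ha) (by simp)]
      have huniv : (Finset.univ : Finset (Subgroup.zpowers t)) =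
          {1, ⟨t, Subgroup.mem_zpowers t⟩} := by
        symm
        apply Finset.eq_univ_of_card
        rw [Finset.card_pair (fun h => ne_one_of_orderOf_two ht (congrArg Subtype.val h).symm),
          ← Nat.card_eq_fintype_card, Nat.card_zpowers, ht]
      rw [huniv, Finset.sum_pair (fun h => ne_one_of_orderOf_two ht (congrArg Subtype.val h).symm),
        hf, hf]
      simp only [OneMemClass.coe_one, one_mul, hχ1, hχt]
      norm_num
    refine ⟨(m : ℤ), ?_⟩
    have h2 : ((2 * Nat.card H : ℕ) : ℂ) ≠ 0 := by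
      exact_mod_cast (by have := Nat.card_pos (α := H); omega : 2 * Nat.card H ≠ 0)
    have hm' : (27 + (w : ℂ)) = ((2 * Nat.card H : ℕ) : ℂ) * (m : ℂ) := by
      rw [← hm, ← hsum, ← hcardK, Cfsg.classInner]
      simp only [map_one, mul_one]
      rw [← mul_assoc, mul_inv_cancel₀ (by rw [hcardK]; exact h2), one_mul]
    exact_mod_cast hm'

/-- No involution centralises a subgroup of order nine. -/
theorem not_centralizes_nine (hG : ¬ IsMulCommutative G) (hN : Nat.card G = 5616) {t : G}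
    (ht : orderOf t = 2) : ¬ 9 ∣ Nat.card (Subgroup.centralizer ({t} : Set G)) := by
  intro h9
  haveI : Fact (Nat.Prime 3) := ⟨Nat.prime_three⟩
  set C := Subgroup.centralizer ({t} : Set G) with hC
  obtain ⟨w, hw1, hw2, hbig, hdiv⟩ := exists_value hG hN ht
  have sub : ∀ k : ℕ, 3 ^ k ∣ Nat.card C → (2 * 3 ^ k : ℤ) ∣ 27 + w := fun k hk => by
    obtain ⟨H, hH⟩ := Sylow.exists_subgroup_card_pow_prime (G := C) 3 hk
    have hc : Nat.card (H.map C.subtype) = 3 ^ k := by
      rw [Subgroup.card_map_of_injective C.subtype_injective, hH]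
    have := hdiv (H.map C.subtype) (Subgroup.map_subtype_le H) (IsPGroup.of_card hc)
    rw [hc] at this
    exact_mod_cast this
  have h18 := sub 2 h9
  norm_num at h18
  have hw9 : w = 9 ∨ w = -9 := by omega
  have hc182 := hbig hw9
  rw [← hC] at hc182
  have h13 := not_thirteen_dvd_centralizer hG hN (a := t) (by rw [ht]; norm_num)
  rw [← hC] at h13
  have hd : Nat.card C ∣ 432 := by
    have h1 : Nat.card C ∣ 13 * 432 := (Subgroup.card_subgroup_dvd_card _).trans hN.dvd
    exact ((Nat.Prime.coprime_iff_not_dvd (by norm_num)).2 h13).symm.dvd_of_dvd_mul_left h1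
  have h27 : 3 ^ 3 ∣ Nat.card C := by
    obtain ⟨i, hi⟩ := hd
    have hle : i ≤ 2 := by
      by_contra h3
      have : Nat.card C * 3 ≤ Nat.card C * i := Nat.mul_le_mul_left _ (by omega)
      omega
    interval_cases i <;> omega
  have h54 := sub 3 h27
  norm_num at h54
  omega

end CfsgLib.Classification.Order5616
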