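import Cfsg.Agent.Classification.Order5616.Existence

/-!
# The thirteen points and their lines

The normaliser `M` of `D` fixes a point; the `D`-orbits on the other twelve points, completed by that
point, are the lines through it.
-/

set_option autoImplicit false
set_option linter.style.haveILetI false

namespace CfsgLib.Classification.Order5616

open MulAction CfsgLib.Classification.SmallOrders
open scoped Pointwise

variable (G : Type*) [Group G] [Finite G]

/-- The local data of a parabolic subgroup. -/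
structure Para where
  D : Subgroup G
  hD : Nat.card D = 9
  hM : Nat.card (Subgroup.normalizer (D : Set G)) = 432
  (d e a b : G)
  hd : d ∈ D
  he : e ∈ D
  hd3 : orderOf d = 3
  he3 : orderOf e = 3
  hed : e ∉ Subgroup.zpowers d
  ha : a ∈ Subgroup.normalizer (D : Set G)
  hb : b ∈ Subgroup.normalizer (D : Set G)
  had : a * d * a⁻¹ = d
  hae : a * e * a⁻¹ = e * d
  hbe : b * e * b⁻¹ = e
  hbd : b * d * b⁻¹ = d * e

variable {G}

/-- A simple group of order 5616 has such data. -/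
theorem nonempty_para [IsSimpleGroup G] (hG : ¬ IsMulCommutative G) (hN : Nat.card G = 5616) :
    Nonempty (Para G) := by
  haveI : Fact (Nat.Prime 3) := ⟨Nat.prime_three⟩
  obtain ⟨D, P, R, hD, hPR, hDP, hDR⟩ := exists_nine hG hN
  obtain ⟨hM, -, d, e, a, b, hd, he, hd3, he3, hed, ha, hb, had, hae, hbe, hbd⟩ :=
    parabolic hG hN hD P R hPR hDP hDR
  exact ⟨⟨D, hD, hM, d, e, a, b, hd, he, hd3, he3, hed, ha, hb, had, hae, hbe, hbd⟩⟩

namespace Para

variable (π : Para G)

/-- The point stabiliser. -/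
abbrev M : Subgroup G := Subgroup.normalizer (π.D : Set G)

/-- The points. -/
abbrev Pt : Type _ := G ⧸ π.M

/-- The base point. -/
abbrev o : π.Pt := ((1 : G) : G ⧸ π.M)

theorem smul_o {g : G} : g • π.o = π.o ↔ g ∈ π.M := by
  rw [← mem_stabilizer_iff, stabilizer_quotient]

/-- The conjugate of `D` attached to a point. -/
noncomputable def Dat (u : π.Pt) : Subgroup G :=
  π.D.map (MulAut.conj (Quotient.out u)).toMonoidHom

theorem mem_Dat {g : G} {u : π.Pt} (h : g • π.o = u) {x : G} :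
    x ∈ π.Dat u ↔ g⁻¹ * x * g ∈ π.D := by
  set g₀ := Quotient.out u with hg₀
  have hg₀o : g₀ • π.o = u := by
    show ((g₀ * 1 : G) : G ⧸ π.M) = u
    rw [mul_one, hg₀]
    exact Quotient.out_eq u
  have hm : g⁻¹ * g₀ ∈ π.M := by
    rw [← π.smul_o, mul_smul, hg₀o, ← h, inv_smul_smul]
  rw [Dat, Subgroup.mem_map_equiv, MulAut.conj_symm_apply]
  rw [show g⁻¹ * x * g = (g⁻¹ * g₀) * (g₀⁻¹ * x * g₀) * (g⁻¹ * g₀)⁻¹ by group]
  exact Subgroup.mem_normalizer_iff.1 hm _

theorem Dat_o : π.Dat π.o = π.D := by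
  ext x
  rw [π.mem_Dat (one_smul G π.o)]
  simp

theorem exists_smul_o (u : π.Pt) : ∃ g : G, g • π.o = u := MulAction.exists_smul_eq G π.o u

theorem mem_Dat_smul {g : G} {u : π.Pt} {x : G} :
    x ∈ π.Dat (g • u) ↔ g⁻¹ * x * g ∈ π.Dat u := by
  obtain ⟨h, hh⟩ := π.exists_smul_o u
  rw [π.mem_Dat (g := g * h) (by rw [mul_smul, hh]), π.mem_Dat hh]
  rw [show (g * h)⁻¹ * x * (g * h) = h⁻¹ * (g⁻¹ * x * g) * h by group]

/-- The part of the line through `u` and `v` away from `u`. -/
noncomputable def arm (u v : π.Pt) : Set π.Pt := (fun x : G => x • v) '' (π.Dat u : Set G)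

/-- The line through two points. -/
noncomputable def lineThrough (u v : π.Pt) : Set π.Pt := insert u (π.arm u v)

theorem smul_arm (g : G) (u v : π.Pt) : g • π.arm u v = π.arm (g • u) (g • v) := by
  ext r
  simp only [arm, Set.mem_smul_set, Set.mem_image, SetLike.mem_coe]
  constructor
  · rintro ⟨_, ⟨x, hx, rfl⟩, rfl⟩
    refine ⟨g * x * g⁻¹, π.mem_Dat_smul.2 ?_, ?_⟩
    · rwa [show g⁻¹ * (g * x * g⁻¹) * g = x by group]
    · rw [smul_smul, smul_smul]
      group
  · rintro ⟨x, hx, rfl⟩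
    refine ⟨_, ⟨_, π.mem_Dat_smul.1 hx, rfl⟩, ?_⟩
    rw [smul_smul, smul_smul]
    group

theorem smul_lineThrough (g : G) (u v : π.Pt) :
    g • π.lineThrough u v = π.lineThrough (g • u) (g • v) := by
  rw [lineThrough, lineThrough, Set.smul_set_insert, π.smul_arm]

theorem mem_arm_self (u v : π.Pt) : v ∈ π.arm u v := ⟨1, one_mem _, one_smul G v⟩

theorem arm_eq_of_mem {u v w : π.Pt} (h : w ∈ π.arm u v) : π.arm u w = π.arm u v := by
  obtain ⟨x, hx, rfl⟩ := h
  ext r
  simp only [arm, Set.mem_image, SetLike.mem_coe]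
  constructor
  · rintro ⟨y, hy, rfl⟩
    exact ⟨y * x, mul_mem hy hx, mul_smul y x v⟩
  · rintro ⟨y, hy, rfl⟩
    refine ⟨y * x⁻¹, mul_mem hy (inv_mem hx), ?_⟩
    rw [smul_smul, inv_mul_cancel_right]

variable [IsSimpleGroup G]

/-- The numerical facts about the points. -/
theorem index_M (hN : Nat.card G = 5616) : π.M.index = 13 := by
  have h := π.M.card_mul_index
  rw [π.hM, hN] at h
  omega

theorem M_ne_top (hN : Nat.card G = 5616) : π.M ≠ ⊤ := fun h => by
  have h' : Nat.card π.M = 432 := π.hM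
  rw [h, Subgroup.card_top, hN] at h'
  omega

theorem D_ne_bot : π.D ≠ ⊥ := fun h => by
  have := π.hD
  rw [h, Subgroup.card_bot] at this
  omega

theorem D_comm {x y : G} (hx : x ∈ π.D) (hy : y ∈ π.D) : x * y = y * x := by
  haveI : Fact (Nat.Prime 3) := ⟨Nat.prime_three⟩
  exact congrArg Subtype.val (IsPGroup.commutative_of_card_eq_prime_sq (p := 3)
    (show Nat.card π.D = 3 ^ 2 by rw [π.hD]; norm_num) ⟨x, hx⟩ ⟨y, hy⟩)

theorem D_le_M : π.D ≤ π.M := Subgroup.le_normalizer

/-- The stabiliser in `D` of a point. -/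
def E (q : π.Pt) : Subgroup G := π.D ⊓ stabilizer G q

omit [IsSimpleGroup G] in
/-- Conjugation by `M` permutes the stabilisers. -/
theorem mem_E_smul {m : G} (hm : m ∈ π.M) {q : π.Pt} {x : G} :
    x ∈ π.E (m • q) ↔ m⁻¹ * x * m ∈ π.E q := by
  rw [E, E, Subgroup.mem_inf, Subgroup.mem_inf, mem_stabilizer_iff, mem_stabilizer_iff,
    ← Subgroup.mem_normalizer_iff''.1 hm x]
  refine and_congr Iff.rfl ⟨fun h => ?_, fun h => ?_⟩
  · rw [mul_smul, mul_smul, h, inv_smul_smul]
  · rw [mul_smul, mul_smul, inv_smul_eq_iff] at h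
    exact h

omit [IsSimpleGroup G] in
theorem card_arm_mul (q : π.Pt) : (π.arm π.o q).ncard * Nat.card (π.E q) = 9 := by
  have h : π.arm π.o q = orbit π.D q := by
    ext r
    simp only [arm, π.Dat_o, Set.mem_image, mem_orbit_iff]
    exact ⟨fun ⟨x, hx, h⟩ => ⟨⟨x, hx⟩, h⟩, fun ⟨x, h⟩ => ⟨x, x.2, h⟩⟩
  have h2 := (stabilizer π.D q).card_mul_index
  rw [index_stabilizer, π.hD, ← h] at h2
  rw [mul_comm, ← h2]
  congr 1
  rw [E, ← Subgroup.card_map_of_injective (f := π.D.subtype) π.D.subtype_injective]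
  refine congrArg (fun H : Subgroup G => Nat.card H) ?_
  ext x
  constructor
  · rintro ⟨hx, hfix⟩
    exact ⟨⟨x, hx⟩, hfix, rfl⟩
  · rintro ⟨y, hy, rfl⟩
    exact ⟨y.2, hy⟩

/-- A point other than the base point has a stabiliser of order three in `D`. -/
theorem card_E (hG : ¬ IsMulCommutative G) (hN : Nat.card G = 5616) {q : π.Pt} (hq : q ≠ π.o) :
    Nat.card (π.E q) = 3 := by
  classical
  -- all the orbits away from the base point are equally large
  have hall : ∀ r : π.Pt, r ≠ π.o → (π.arm π.o r).ncard = (π.arm π.o q).ncard := by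
    intro r hr
    obtain ⟨m, hm, rfl⟩ := exists_mem_smul_eq hG (π.index_M hN) hq hr
    have h := π.smul_arm m π.o q
    rw [π.smul_o.2 hm] at h
    rw [← h, Set.ncard_smul_set]
  have hpos : 0 < (π.arm π.o q).ncard :=
    (Set.ncard_pos (Set.toFinite _)).2 ⟨q, π.mem_arm_self π.o q⟩
  haveI : Fintype π.Pt := Fintype.ofFinite _
  let F : SubMulAction π.D π.Pt :=
    { carrier := {r | r ≠ π.o}
      smul_mem' := fun x r hr h => hr (by
        have h' : (x : G) • r = π.o := h
        rw [← inv_smul_smul (x : G) r, h', π.smul_o.2 (π.D_le_M (inv_mem x.2))]) }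
  have hF : Nat.card F = 12 := by
    show Nat.card {r : π.Pt // r ≠ π.o} = 12
    rw [Nat.card_eq_fintype_card, Fintype.card_subtype_compl, Fintype.card_subtype_eq,
      ← Nat.card_eq_fintype_card, ← Subgroup.index_eq_card, π.index_M hN]
  have h12 : (π.arm π.o q).ncard ∣ 12 := by
    rw [← hF]
    refine CfsgLib.Derangement.dvd_card_of_dvd_orbit (M := π.D) fun r => dvd_of_eq ?_
    rw [← hall r.1 r.2, Nat.card_coe_set_eq]
    have : π.arm π.o r.1 = Subtype.val '' orbit π.D r := by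
      ext s
      simp only [arm, π.Dat_o, Set.mem_image, mem_orbit_iff]
      constructor
      · rintro ⟨x, hx, rfl⟩
        exact ⟨_, ⟨⟨x, hx⟩, rfl⟩, rfl⟩
      · rintro ⟨_, ⟨x, rfl⟩, rfl⟩
        exact ⟨x, x.2, rfl⟩
    rw [this, Set.ncard_image_of_injective _ Subtype.val_injective]
  have h9 : (π.arm π.o q).ncard ∣ 9 := Dvd.intro _ (π.card_arm_mul q)
  have h3 : (π.arm π.o q).ncard = 3 := by
    have h := Nat.dvd_gcd h12 h9
    rw [show Nat.gcd 12 9 = 3 by norm_num] at h
    rcases (Nat.dvd_prime Nat.prime_three).1 h with h1 | h1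
    · exfalso
      -- otherwise `D` fixes every point
      refine π.D_ne_bot ((Subgroup.eq_bot_iff_forall _).2 fun x hx => ?_)
      refine CfsgLib.Small.toPermHom_coset_injective (π.M_ne_top hN) ?_
      rw [map_one]
      refine Equiv.ext fun r => ?_
      by_cases hr : r = π.o
      · rw [hr]; exact π.smul_o.2 (π.D_le_M hx)
      · obtain ⟨s, hs⟩ := Set.ncard_eq_one.1 ((hall r hr).trans h1)
        have h1' := hs ▸ π.mem_arm_self π.o r
        have h2' : x • r ∈ π.arm π.o r := ⟨x, π.Dat_o.symm ▸ hx, rfl⟩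
        rw [hs] at h2'
        exact (Set.mem_singleton_iff.1 h2').trans (Set.mem_singleton_iff.1 h1').symm
    · exact h1
  have := π.card_arm_mul q
  rw [h3] at this
  omega

theorem ncard_arm (hG : ¬ IsMulCommutative G) (hN : Nat.card G = 5616) {q : π.Pt} (hq : q ≠ π.o) :
    (π.arm π.o q).ncard = 3 := by
  have := π.card_arm_mul q
  rw [π.card_E hG hN hq] at this
  omega

/-- Points away from the base point fixed by the stabiliser of `q` lie on the arm of `q`. -/
theorem mem_arm_of_fixed (hG : ¬ IsMulCommutative G) (hN : Nat.card G = 5616) {q r : π.Pt}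
    (hq : q ≠ π.o) (hr : r ≠ π.o) (hfix : ∀ x ∈ π.E q, x • r = r) : r ∈ π.arm π.o q := by
  classical
  haveI : Fintype π.Pt := Fintype.ofFinite _
  -- the four lines of `D`
  let gen : Fin 4 → G := ![π.d, π.e, π.e * π.d, π.e * π.d ^ 2]
  have hd3 : π.d ^ 3 = 1 := π.hd3 ▸ pow_orderOf_eq_one π.d
  have he3 : π.e ^ 3 = 1 := π.he3 ▸ pow_orderOf_eq_one π.e
  have hcomm : Commute π.e π.d := π.D_comm π.he π.hd
  have hgenD : ∀ i, gen i ∈ π.D := by
    intro i
    fin_cases i
    · exact π.hd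
    · exact π.he
    · exact mul_mem π.he π.hd
    · exact mul_mem π.he (pow_mem π.hd 2)
  -- a subgroup containing two generators is all of `D`
  have hgen2 : ∀ i j, i ≠ j → ∀ H : Subgroup G, gen i ∈ H → gen j ∈ H → π.d ∈ H ∧ π.e ∈ H := by
    intro i j hij H hi hj
    have key : π.d ∈ H → π.e ∈ H → π.d ∈ H ∧ π.e ∈ H := fun h h' => ⟨h, h'⟩
    have hsq : π.d ^ 2 ∈ H → π.d ∈ H := fun h => by
      have h2 := mul_mem h h
      rwa [← pow_add, show 2 + 2 = 3 + 1 from rfl, pow_add, hd3, one_mul, pow_one] at h2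
    have c01 : π.d ∈ H → π.e * π.d ∈ H → π.e ∈ H := fun h h' => by
      simpa using mul_mem h' (inv_mem h)
    have c02 : π.d ∈ H → π.e * π.d ^ 2 ∈ H → π.e ∈ H := fun h h' => by
      simpa using mul_mem h' (inv_mem (pow_mem h 2))
    have c12 : π.e ∈ H → π.e * π.d ∈ H → π.d ∈ H := fun h h' => by
      simpa using mul_mem (inv_mem h) h'
    have c13 : π.e ∈ H → π.e * π.d ^ 2 ∈ H → π.d ∈ H := fun h h' =>
      hsq (by simpa using mul_mem (inv_mem h) h')
    have c23 : π.e * π.d ∈ H → π.e * π.d ^ 2 ∈ H → π.d ∈ H ∧ π.e ∈ H := fun h h' => by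
      have hd : π.d ∈ H := by simpa [pow_two, mul_assoc] using mul_mem (inv_mem h) h'
      exact ⟨hd, c01 hd h⟩
    fin_cases i <;> fin_cases j
    · exact absurd rfl hij
    · exact ⟨hi, hj⟩
    · exact ⟨hi, c01 hi hj⟩
    · exact ⟨hi, c02 hi hj⟩
    · exact ⟨hj, hi⟩
    · exact absurd rfl hij
    · exact ⟨c12 hi hj, hi⟩
    · exact ⟨c13 hi hj, hi⟩
    · exact ⟨hj, c01 hj hi⟩
    · exact ⟨c12 hj hi, hj⟩
    · exact absurd rfl hij
    · exact c23 hi hj
    · exact ⟨hj, c02 hj hi⟩
    · exact ⟨c13 hj hi, hj⟩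
    · exact c23 hj hi
    · exact absurd rfl hij
  have hfull : ∀ H : Subgroup G, π.d ∈ H → π.e ∈ H → π.D ≤ H := by
    intro H h1 h2
    have h3 : Subgroup.zpowers π.d ≤ π.D ⊓ H := Subgroup.zpowers_le.2 ⟨π.hd, h1⟩
    have hlt : 3 < Nat.card (π.D ⊓ H : Subgroup G) := by
      by_contra hle
      have := Subgroup.eq_of_le_of_card_ge h3 (by rw [Nat.card_zpowers, π.hd3]; omega)
      exact π.hed (this ▸ (⟨π.he, h2⟩ : π.e ∈ π.D ⊓ H))
    have hdvd := mem_divisors_of_dvd (π.hD ▸ Subgroup.card_dvd_of_le (inf_le_left (b := H)))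
      (by norm_num)
    rw [show Nat.divisors 9 = {1, 3, 9} by decide +kernel] at hdvd
    simp only [Finset.mem_insert, Finset.mem_singleton] at hdvd
    exact (Subgroup.eq_of_le_of_card_ge (inf_le_left (b := H)) (by rw [π.hD]; omega)).ge.trans inf_le_right
  -- the points fixed by each generator
  let F : Fin 4 → Finset π.Pt := fun i => Finset.univ.filter fun s => s ≠ π.o ∧ gen i • s = s
  have hdisj : ∀ i j, i ≠ j → Disjoint (F i) (F j) := by
    intro i j hij
    rw [Finset.disjoint_left]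
    intro s hsi hsj
    obtain ⟨-, hso, hsi⟩ := Finset.mem_filter.1 hsi
    obtain ⟨-, -, hsj⟩ := Finset.mem_filter.1 hsj
    obtain ⟨h1, h2⟩ := hgen2 i j hij (stabilizer G s) hsi hsj
    have := π.card_E hG hN hso
    rw [E, inf_eq_left.2 (hfull _ h1 h2), π.hD] at this
    omega
  -- every line fixes some point away from the base point
  have hfixsome : ∀ i, ∃ s : π.Pt, s ≠ π.o ∧ gen i • s = s := by
    have hmove : ∀ {m x : G}, m ∈ π.M → (∃ s : π.Pt, s ≠ π.o ∧ x • s = s) →
        ∃ s : π.Pt, s ≠ π.o ∧ (m * x * m⁻¹) • s = s := by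
      rintro m x hm ⟨s, hs, hx⟩
      refine ⟨m • s, fun h => hs ?_, by rw [mul_smul, mul_smul, inv_smul_smul, hx]⟩
      rw [← inv_smul_smul m s, h, π.smul_o.2 (inv_mem hm)]
    have he_all : (∃ s : π.Pt, s ≠ π.o ∧ π.e • s = s) → ∀ i, ∃ s : π.Pt, s ≠ π.o ∧ gen i • s = s := by
      intro h0 i
      have h1 : ∃ s : π.Pt, s ≠ π.o ∧ (π.e * π.d) • s = s := by
        have := hmove π.ha h0
        rwa [π.hae] at this
      have h2 : ∃ s : π.Pt, s ≠ π.o ∧ (π.e * π.d ^ 2) • s = s := by
        have := hmove π.ha h1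
        rwa [show π.a * (π.e * π.d) * π.a⁻¹ = (π.a * π.e * π.a⁻¹) * (π.a * π.d * π.a⁻¹) by group,
          π.hae, π.had, mul_assoc, ← pow_two] at this
      have h3 : ∃ s : π.Pt, s ≠ π.o ∧ π.d • s = s := by
        obtain ⟨s, hs, hx⟩ := hmove π.hb h2
        refine ⟨s, hs, ?_⟩
        have heq : π.b * (π.e * π.d ^ 2) * π.b⁻¹ = π.d ^ 2 := by
          rw [show π.b * (π.e * π.d ^ 2) * π.b⁻¹ = (π.b * π.e * π.b⁻¹) * (π.b * π.d * π.b⁻¹) ^ 2 by
            rw [conj_pow]; group, π.hbe, π.hbd, hcomm.symm.mul_pow, ← mul_assoc, (hcomm.pow_right 2).eq,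
            mul_assoc, ← pow_succ', he3, mul_one]
        rw [heq] at hx
        have h4 : (π.d ^ 2 * π.d ^ 2) • s = s := by rw [mul_smul, hx, hx]
        rwa [← pow_add, show 2 + 2 = 3 + 1 from rfl, pow_add, hd3, one_mul, pow_one] at h4
      fin_cases i
      exacts [h3, h0, h1, h2]
    refine he_all ?_
    -- a nontrivial element of some stabiliser
    haveI : Fact (Nat.Prime 3) := ⟨Nat.prime_three⟩
    obtain ⟨f, hf⟩ := exists_prime_orderOf_dvd_card' (G := ↥(π.E q)) 3 (by rw [π.card_E hG hN hq])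
    have hfD : (f : G) ∈ π.D := f.2.1
    have hf1 : (f : G) ≠ 1 := fun h => by
      rw [← Subgroup.orderOf_coe, h, orderOf_one] at hf
      omega
    -- coordinates of `f`
    obtain ⟨i, j, hij⟩ : ∃ i j : Fin 3, (f : G) = π.e ^ (i : ℕ) * π.d ^ (j : ℕ) := by
      let φ : Fin 3 × Fin 3 → π.D := fun p =>
        ⟨π.e ^ (p.1 : ℕ) * π.d ^ (p.2 : ℕ), mul_mem (pow_mem π.he _) (pow_mem π.hd _)⟩
      have hinj : Function.Injective φ := by
        rintro ⟨i, j⟩ ⟨k, l⟩ h
        have h' : π.e ^ (i : ℕ) * π.d ^ (j : ℕ) = π.e ^ (k : ℕ) * π.d ^ (l : ℕ) :=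
          congrArg Subtype.val h
        have h'' : π.e ^ ((i : ℕ) + 3 - k) = π.d ^ ((l : ℕ) + 3 - j) := by
          have e1 : π.e ^ ((i : ℕ) + 3 - k) * π.e ^ (k : ℕ) = π.e ^ (i : ℕ) := by
            rw [← pow_add, Nat.sub_add_cancel (by omega), pow_add, he3, mul_one]
          have e2 : π.d ^ ((l : ℕ) + 3 - j) * π.d ^ (j : ℕ) = π.d ^ (l : ℕ) := by
            rw [← pow_add, Nat.sub_add_cancel (by omega), pow_add, hd3, mul_one]
          have h4 : π.e ^ (k : ℕ) * (π.e ^ ((i : ℕ) + 3 - k) * π.d ^ (j : ℕ))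
              = π.e ^ (k : ℕ) * (π.d ^ ((l : ℕ) + 3 - j) * π.d ^ (j : ℕ)) := by
            rw [e2, ← mul_assoc, ← pow_mul_comm, e1]
            exact h'
          exact mul_right_cancel (mul_left_cancel h4)
        have hik : i = k := by
          by_contra hne
          apply π.hed
          have hmem : π.e ^ ((i : ℕ) + 3 - k) ∈ Subgroup.zpowers π.d := by
            rw [h'']; exact Subgroup.npow_mem_zpowers _ _
          have hm : ((i : ℕ) + 3 - k) % 3 = 1 ∨ ((i : ℕ) + 3 - k) % 3 = 2 := by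
            have : (i : ℕ) ≠ k := fun h => hne (Fin.ext h)
            omega
          rw [← pow_mod_orderOf, π.he3] at hmem
          rcases hm with hm | hm <;> rw [hm] at hmem
          · rwa [pow_one] at hmem
          · have := mul_mem hmem hmem
            rwa [← pow_add, show 2 + 2 = 3 + 1 from rfl, pow_add, he3, one_mul, pow_one] at this
        subst hik
        have hjl : π.d ^ (j : ℕ) = π.d ^ (l : ℕ) := mul_left_cancel h'
        rw [pow_inj_mod, π.hd3, Nat.mod_eq_of_lt j.2, Nat.mod_eq_of_lt l.2] at hjl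
        rw [Fin.ext hjl]
      haveI := Fintype.ofFinite π.D
      have hbij : Function.Bijective φ := (Fintype.bijective_iff_injective_and_card φ).2
        ⟨hinj, by rw [← Nat.card_eq_fintype_card, ← Nat.card_eq_fintype_card, π.hD]; simp⟩
      obtain ⟨⟨i, j⟩, hp⟩ := hbij.2 ⟨f, hfD⟩
      exact ⟨i, j, (congrArg Subtype.val hp).symm⟩
    have hbase : ∃ s : π.Pt, s ≠ π.o ∧ (f : G) • s = s := ⟨q, hq, f.2.2⟩
    -- move `f` to a power of `e`
    have hpow : ∀ {x : G} (n : ℕ), (∃ s : π.Pt, s ≠ π.o ∧ x • s = s) →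
        ∃ s : π.Pt, s ≠ π.o ∧ (x ^ n) • s = s := by
      rintro x n ⟨s, hs, hx⟩
      refine ⟨s, hs, ?_⟩
      induction n with
      | zero => simp
      | succ n ih => rw [pow_succ, mul_smul, hx, ih]
    have hconj_e : ∀ n : ℕ, π.a ^ n * π.e * (π.a ^ n)⁻¹ = π.e * π.d ^ n := by
      intro n
      induction n with
      | zero => simp
      | succ n ih =>
        rw [show π.a ^ (n + 1) * π.e * (π.a ^ (n + 1))⁻¹ =
          π.a * (π.a ^ n * π.e * (π.a ^ n)⁻¹) * π.a⁻¹ by rw [pow_succ']; group, ih,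
          show π.a * (π.e * π.d ^ n) * π.a⁻¹ = (π.a * π.e * π.a⁻¹) * (π.a * π.d * π.a⁻¹) ^ n by
            rw [conj_pow]; group, π.hae, π.had, mul_assoc, ← pow_succ']
    have fromline : ∀ n : ℕ, (∃ s : π.Pt, s ≠ π.o ∧ (π.e * π.d ^ n) • s = s) →
        ∃ s : π.Pt, s ≠ π.o ∧ π.e • s = s := by
      intro n hn
      have := hmove (inv_mem (pow_mem π.ha n)) hn
      rwa [inv_inv, ← hconj_e n, show (π.a ^ n)⁻¹ * (π.a ^ n * π.e * (π.a ^ n)⁻¹) * π.a ^ n = π.e by
        group] at this
    have fromd : (∃ s : π.Pt, s ≠ π.o ∧ π.d • s = s) → ∃ s : π.Pt, s ≠ π.o ∧ π.e • s = s := by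
      intro h
      refine fromline 1 ?_
      have := hmove π.hb h
      rwa [π.hbd, ← hcomm.eq, ← pow_one π.d] at this
    rw [hij] at hbase hf1
    fin_cases i <;> fin_cases j <;> simp only [Fin.zero_eta, Fin.mk_one, Fin.val_zero, Fin.val_one,
      Fin.val_two, Fin.reduceFinMk, pow_zero, pow_one, one_mul, mul_one] at hbase hf1
    · exact absurd rfl hf1
    · exact fromd hbase
    · refine fromd ?_
      have := hpow 2 hbase
      rwa [← pow_mul, show 2 * 2 = 3 + 1 from rfl, pow_add, hd3, one_mul, pow_one] at this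
    · exact hbase
    · exact fromline 1 (by rwa [pow_one])
    · exact fromline 2 hbase
    · have := hpow 2 hbase
      rwa [← pow_mul, show 2 * 2 = 3 + 1 from rfl, pow_add, he3, one_mul, pow_one] at this
    · refine fromline 2 ?_
      have := hpow 2 hbase
      rwa [(hcomm.pow_left 2).mul_pow, ← pow_mul, show 2 * 2 = 3 + 1 from rfl, pow_add, he3,
        one_mul, pow_one] at this
    · refine fromline 1 ?_
      have := hpow 2 hbase
      rw [(hcomm.pow_pow 2 2).mul_pow, ← pow_mul, ← pow_mul, show 2 * 2 = 3 + 1 from rfl, pow_add,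
        pow_add, he3, hd3, one_mul, one_mul, pow_one, pow_one] at this
      rwa [pow_one]
  -- arms inside the fixed sets
  have harm : ∀ i s, s ∈ F i → (π.arm π.o s).toFinset ⊆ F i := by
    intro i s hs t ht
    rw [Set.mem_toFinset] at ht
    obtain ⟨x, hx, rfl⟩ := ht
    rw [π.Dat_o] at hx
    obtain ⟨-, hso, hsi⟩ := Finset.mem_filter.1 hs
    refine Finset.mem_filter.2 ⟨Finset.mem_univ _, fun h => hso ?_, ?_⟩
    · rw [← inv_smul_smul x s]
      show x⁻¹ • x • s = π.o
      rw [show x • s = π.o from h, π.smul_o.2 (π.D_le_M (inv_mem hx))]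
    · show gen i • x • s = x • s
      rw [smul_smul, π.D_comm (hgenD i) hx, ← smul_smul, hsi]
  have hge : ∀ i, 3 ≤ (F i).card := by
    intro i
    obtain ⟨s, hs1, hs2⟩ := hfixsome i
    have hs : s ∈ F i := Finset.mem_filter.2 ⟨Finset.mem_univ _, hs1, hs2⟩
    have := Finset.card_le_card (harm i s hs)
    rwa [← Set.ncard_eq_toFinset_card', π.ncard_arm hG hN hs1] at this
  have hU : Finset.univ.biUnion F ⊆ Finset.univ.erase π.o := by
    intro s hs
    obtain ⟨i, -, hi⟩ := Finset.mem_biUnion.1 hs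
    exact Finset.mem_erase.2 ⟨(Finset.mem_filter.1 hi).2.1, Finset.mem_univ _⟩
  have hcardU : (Finset.univ.biUnion F).card = ∑ i, (F i).card :=
    Finset.card_biUnion fun i _ j _ hij => hdisj i j hij
  have h12 : (Finset.univ.erase π.o).card = 12 := by
    rw [Finset.card_erase_of_mem (Finset.mem_univ _), Finset.card_univ, ← Nat.card_eq_fintype_card,
      ← Subgroup.index_eq_card, π.index_M hN]
  have hle := Finset.card_le_card hU
  rw [hcardU, h12, Fin.sum_univ_four] at hle
  have hall3 : ∀ i, (F i).card = 3 := by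
    intro i
    have := hge 0; have := hge 1; have := hge 2; have := hge 3
    fin_cases i <;> simp only [Fin.zero_eta, Fin.mk_one, Fin.reduceFinMk] <;> omega
  have hUeq : Finset.univ.biUnion F = Finset.univ.erase π.o := by
    refine Finset.eq_of_subset_of_card_le hU ?_
    rw [hcardU, h12, Fin.sum_univ_four, hall3, hall3, hall3, hall3]
  have hqU : q ∈ Finset.univ.biUnion F := hUeq ▸ Finset.mem_erase.2 ⟨hq, Finset.mem_univ _⟩
  obtain ⟨i, -, hqi⟩ := Finset.mem_biUnion.1 hqU
  have hrF : r ∈ F i := Finset.mem_filter.2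
    ⟨Finset.mem_univ _, hr, hfix _ ⟨hgenD i, (Finset.mem_filter.1 hqi).2.2⟩⟩
  have heq := Finset.eq_of_subset_of_card_le (harm i q hqi)
    (by rw [hall3, ← Set.ncard_eq_toFinset_card', π.ncard_arm hG hN hq])
  rw [← heq, Set.mem_toFinset] at hrF
  exact hrF

/-- The line through the base point and `q` is the line through `q` and the base point. -/
theorem lineThrough_symm_o (hG : ¬ IsMulCommutative G) (hN : Nat.card G = 5616) {q : π.Pt}
    (hq : q ≠ π.o) : π.lineThrough π.o q = π.lineThrough q π.o := by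
  classical
  haveI : Fact (Nat.Prime 3) := ⟨Nat.prime_three⟩
  have hEp : IsPGroup 3 (π.E q) := IsPGroup.of_card (n := 1) (by rw [π.card_E hG hN hq, pow_one])
  have hES : π.E q ≤ π.M ⊓ stabilizer G q := inf_le_inf π.D_le_M le_rfl
  obtain ⟨R, hR⟩ := (hEp.comap_subtype (K := π.M ⊓ stabilizer G q)).exists_le_sylow
  set R' := (R : Subgroup ↥(π.M ⊓ stabilizer G q)).map (π.M ⊓ stabilizer G q).subtype with hR'
  have hR'p : IsPGroup 3 R' := R.2.map _
  have hER : π.E q ≤ R' := fun x hx => ⟨⟨x, hES hx⟩, hR hx, rfl⟩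
  have hR'S : R' ≤ π.M ⊓ stabilizer G q := Subgroup.map_subtype_le _
  -- `R` fixes every point of an arm it stabilises that has a fixed point
  have key : ∀ u v : π.Pt, (π.arm u v).ncard = 3 → (∀ x ∈ R', x • u = u ∧ x • v = v) →
      ∀ w ∈ π.arm u v, ∀ x ∈ R', x • w = w := by
    intro u v h3 huv w hw x hx
    by_contra hne
    let Z : Set π.Pt := π.arm u v \ {v}
    have hZ : ∀ y ∈ R', ∀ t ∈ Z, y • t ∈ Z := by
      rintro y hy t ⟨ht, htv⟩
      refine ⟨?_, fun h => htv ?_⟩
      · have : y • t ∈ y • π.arm u v := Set.smul_mem_smul_set ht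
        rwa [π.smul_arm, (huv y hy).1, (huv y hy).2] at this
      · simp only [Set.mem_singleton_iff] at h ⊢
        rw [← inv_smul_smul y t, h, inv_smul_eq_iff]
        exact (huv y hy).2.symm
    have hwv : w ≠ v := fun h => hne (h ▸ (huv x hx).2)
    have horb : orbit R' w ⊆ Z := by
      rintro _ ⟨y, rfl⟩
      exact hZ y y.2 w ⟨hw, hwv⟩
    obtain ⟨j, hj⟩ := hR'p.card_orbit w
    have hle : Nat.card (orbit R' w) ≤ 2 := by
      rw [Nat.card_coe_set_eq]
      refine (Set.ncard_le_ncard horb (Set.toFinite _)).trans ?_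
      rw [Set.ncard_sdiff (Set.singleton_subset_iff.2 (π.mem_arm_self u v)), h3, Set.ncard_singleton]
    have hj0 : j = 0 := by
      by_contra hj0
      have := Nat.le_self_pow hj0 3
      omega
    rw [hj0, pow_zero] at hj
    haveI := (Nat.card_eq_one_iff_unique.1 hj).1
    refine hne ?_
    have h := congrArg Subtype.val (Subsingleton.elim (⟨_, mem_orbit w (⟨x, hx⟩ : R')⟩ : orbit R' w)
      ⟨w, mem_orbit_self w⟩)
    exact h
  have hfix : ∀ x ∈ R', x • π.o = π.o ∧ x • q = q := fun x hx =>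
    ⟨π.smul_o.2 (hR'S hx).1, (hR'S hx).2⟩
  -- the other arm also has three points
  obtain ⟨g, hg⟩ := π.exists_smul_o q
  have hgo : g⁻¹ • π.o ≠ π.o := fun h => hq (by
    have h' := congrArg (fun z => g • z) h
    simp only [smul_inv_smul] at h'
    rw [← hg, ← h'])
  have harm2 : π.arm q π.o = g • π.arm π.o (g⁻¹ • π.o) := by rw [π.smul_arm, hg, smul_inv_smul]
  have h3' : (π.arm q π.o).ncard = 3 := by rw [harm2, Set.ncard_smul_set, π.ncard_arm hG hN hgo]
  have hsub : π.lineThrough q π.o ⊆ π.lineThrough π.o q := by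
    refine Set.insert_subset (Set.mem_insert_of_mem _ (π.mem_arm_self _ _)) fun w hw => ?_
    by_cases hwo : w = π.o
    · exact hwo ▸ Set.mem_insert _ _
    refine Set.mem_insert_of_mem _ (π.mem_arm_of_fixed hG hN hq hwo fun x hx => ?_)
    exact key q π.o h3' (fun y hy => ⟨(hfix y hy).2, (hfix y hy).1⟩) w hw x (hER hx)
  have hq' : q ∉ π.arm q π.o := by
    rw [harm2]
    rintro ⟨t, ⟨x, hx, rfl⟩, ht⟩
    apply hgo
    rw [π.Dat_o] at hx
    have ht' : g • x • g⁻¹ • π.o = g • π.o := ht.trans hg.symm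
    have h2 : x • g⁻¹ • π.o = π.o := smul_left_cancel g ht'
    rw [← inv_smul_smul x (g⁻¹ • π.o), h2, π.smul_o.2 (π.D_le_M (inv_mem hx))]
  refine (Set.eq_of_subset_of_ncard_le hsub ?_ (Set.toFinite _)).symm
  rw [lineThrough, lineThrough, Set.ncard_insert_of_notMem hq', h3']
  exact (Set.ncard_insert_le _ _).trans (by rw [π.ncard_arm hG hN hq])

/-- Lines are symmetric. -/
theorem lineThrough_symm (hG : ¬ IsMulCommutative G) (hN : Nat.card G = 5616) {u v : π.Pt}
    (huv : u ≠ v) : π.lineThrough u v = π.lineThrough v u := by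
  obtain ⟨g, rfl⟩ := π.exists_smul_o u
  have hv : g⁻¹ • v ≠ π.o := fun h => huv (by rw [← h, smul_inv_smul])
  have h := congrArg (fun S => g • S) (π.lineThrough_symm_o hG hN hv)
  simp only [π.smul_lineThrough, smul_inv_smul] at h
  exact h

/-- A line has four points. -/
theorem ncard_lineThrough (hG : ¬ IsMulCommutative G) (hN : Nat.card G = 5616) {u v : π.Pt}
    (huv : u ≠ v) : (π.lineThrough u v).ncard = 4 := by
  obtain ⟨g, rfl⟩ := π.exists_smul_o u
  have hv : g⁻¹ • v ≠ π.o := fun h => huv (by rw [← h, smul_inv_smul])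
  have h : π.lineThrough (g • π.o) v = g • π.lineThrough π.o (g⁻¹ • v) := by
    rw [π.smul_lineThrough, smul_inv_smul]
  rw [h, Set.ncard_smul_set, lineThrough, Set.ncard_insert_of_notMem, π.ncard_arm hG hN hv]
  rintro ⟨x, hx, hxo⟩
  apply hv
  rw [π.Dat_o] at hx
  have hxo' : x • g⁻¹ • v = π.o := hxo
  rw [← inv_smul_smul x (g⁻¹ • v), hxo', π.smul_o.2 (π.D_le_M (inv_mem hx))]

/-- A line is determined by two of its points. -/
theorem lineThrough_eq (hG : ¬ IsMulCommutative G) (hN : Nat.card G = 5616) {u v x y : π.Pt}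
    (huv : u ≠ v) (hxy : x ≠ y) (hx : x ∈ π.lineThrough u v) (hy : y ∈ π.lineThrough u v) :
    π.lineThrough x y = π.lineThrough u v := by
  have step : ∀ a b c : π.Pt, c ∈ π.lineThrough a b → c ≠ a → π.lineThrough a c = π.lineThrough a b :=
    fun a b c hc hne => by
      rw [lineThrough, lineThrough, π.arm_eq_of_mem ((Set.mem_insert_iff.1 hc).resolve_left hne)]
  by_cases hxu : x = u
  · subst hxu
    exact step x v y hy (Ne.symm hxy)
  have hux : π.lineThrough u v = π.lineThrough x u := by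
    rw [← step u v x hx hxu, π.lineThrough_symm hG hN (Ne.symm hxu)]
  rw [hux] at hy ⊢
  exact step x u y hy (Ne.symm hxy)

end Para

end CfsgLib.Classification.Order5616
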