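import Cfsg.Agent.Classification.Order5616.Facts
import Cfsg.Agent.S0675
import Cfsg.Agent.Derangement.Subgroup

/-!
# Simple groups of order 5616: a subgroup of order 9 with normaliser of order 432
-/

set_option autoImplicit false
set_option linter.style.haveILetI false

namespace CfsgLib.Classification.Order5616

open Cfsg CfsgLib.Small CfsgLib.Classification.SmallOrders CfsgLib.Classification.OrderRange
open CfsgLib.Classification.OrderMid MulAction
open scoped commutatorElement

section general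

variable {G : Type*} [Group G] [Finite G]

/-- A subgroup of a Sylow 3-subgroup of order 27 meeting another one in more than three elements
meets it in nine, unless they are equal. -/
theorem card_inf_of_ne {P R : Subgroup G} (hP : Nat.card P = 27) (hR : Nat.card R = 27)
    (hne : P ≠ R) (h : 3 < Nat.card (P ⊓ R : Subgroup G)) : Nat.card (P ⊓ R : Subgroup G) = 9 := by
  have hd : Nat.card (P ⊓ R : Subgroup G) ∈ Nat.divisors 27 :=
    Nat.mem_divisors.2 ⟨hP ▸ Subgroup.card_dvd_of_le inf_le_left, by norm_num⟩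
  rw [show Nat.divisors 27 = {1, 3, 9, 27} by decide +kernel] at hd
  simp only [Finset.mem_insert, Finset.mem_singleton] at hd
  rcases hd with e | e | e | e <;> try omega
  exfalso
  have h1 := Subgroup.eq_of_le_of_card_ge (inf_le_left : P ⊓ R ≤ P) (by omega)
  have h2 := Subgroup.eq_of_le_of_card_ge (inf_le_right : P ⊓ R ≤ R) (by omega)
  exact hne (h1.symm.trans h2)

/-- A subgroup of index three in a group of order 27 is normal. -/
theorem le_normalizer_of_nine {D T : Subgroup G} (hD : Nat.card D = 9) (hT : Nat.card T = 27)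
    (hDT : D ≤ T) : T ≤ Subgroup.normalizer (D : Set G) := by
  have hi : (D.subgroupOf T).index = 3 := by
    have h := (D.subgroupOf T).card_mul_index
    rw [Nat.card_congr (Subgroup.subgroupOfEquivOfLe hDT).toEquiv, hD, hT] at h
    omega
  haveI : (D.subgroupOf T).Normal := by
    refine Subgroup.normal_of_index_eq_minFac_card ?_
    rw [hi, hT]
    norm_num
  exact (Subgroup.normal_subgroupOf_iff_le_normalizer hDT).1 inferInstance

/-- In a group of order 27 with central element `d` of order three, conjugation moves an element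
by a power of `d`. -/
theorem exists_shift {T : Subgroup G} (hT : Nat.card T = 27) {d : G} (hd : orderOf d = 3)
    (hdT : d ∈ T) (hz : ∀ x ∈ T, x * d = d * x) {x f : G} (hx : x ∈ T) (hf : f ∈ T) :
    ∃ i < 3, x * f * x⁻¹ = f * d ^ i := by
  classical
  haveI : Fact (Nat.Prime 3) := ⟨Nat.prime_three⟩
  set Z : Subgroup T := Subgroup.zpowers ⟨d, hdT⟩ with hZ
  haveI : Z.Normal := ⟨fun n hn g => by
    obtain ⟨k, hk⟩ := hn
    have hc : Commute g (⟨d, hdT⟩ : T) := Subtype.ext (hz g g.2)
    rw [← hk]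
    show g * (⟨d, hdT⟩ : T) ^ k * g⁻¹ ∈ Z
    rw [(hc.zpow_right k).eq, mul_inv_cancel_right]
    exact Subgroup.zpow_mem _ (Subgroup.mem_zpowers _) k⟩
  have hq : Nat.card (T ⧸ Z) = 3 ^ 2 := by
    have h := Subgroup.card_eq_card_quotient_mul_card_subgroup Z
    rw [Nat.card_zpowers, ← Subgroup.orderOf_coe, hT] at h
    simp only at h
    rw [hd] at h
    omega
  have hcomm : (QuotientGroup.mk ((⟨f, hf⟩ : T)⁻¹ * ⟨x, hx⟩ * ⟨f, hf⟩ * (⟨x, hx⟩ : T)⁻¹) : T ⧸ Z)
      = 1 := by
    have hc : ∀ a b : T ⧸ Z, a * b = b * a := fun a b =>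
      IsPGroup.commutative_of_card_eq_prime_sq hq a b
    simp only [QuotientGroup.mk_mul, QuotientGroup.mk_inv]
    rw [mul_assoc ((QuotientGroup.mk (⟨f, hf⟩ : T) : T ⧸ Z))⁻¹, hc (QuotientGroup.mk (⟨x, hx⟩ : T))]
    group
  rw [QuotientGroup.eq_one_iff, hZ, mem_zpowers_iff_mem_range_orderOf, Finset.mem_image] at hcomm
  obtain ⟨i, hi, he⟩ := hcomm
  rw [Finset.mem_range, ← Subgroup.orderOf_coe] at hi
  simp only at hi
  refine ⟨i, hd ▸ hi, ?_⟩
  have he' : d ^ i = f⁻¹ * x * f * x⁻¹ := by simpa using congrArg Subtype.val he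
  rw [he']
  group

/-- An element commuting with two elements generating more than a line of `D` centralises `D`. -/
theorem mem_centralizer_of_two {D : Subgroup G} (hD : Nat.card D = 9) {d f g : G} (hd : d ∈ D)
    (hd3 : orderOf d = 3) (hf : f ∈ D) (hfd : f ∉ Subgroup.zpowers d) (h1 : g * d = d * g)
    (h2 : g * f = f * g) : g ∈ Subgroup.centralizer (D : Set G) := by
  set H := D ⊓ Subgroup.centralizer ({g} : Set G) with hH
  have hdH : d ∈ H := ⟨hd, Subgroup.mem_centralizer_singleton_iff.2 h1.symm⟩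
  have hfH : f ∈ H := ⟨hf, Subgroup.mem_centralizer_singleton_iff.2 h2.symm⟩
  have hle : Subgroup.zpowers d ≤ H := Subgroup.zpowers_le.2 hdH
  have hlt : 3 < Nat.card H := by
    by_contra hle3
    have h := Subgroup.eq_of_le_of_card_ge hle (by rw [Nat.card_zpowers, hd3]; omega)
    exact hfd (h ▸ hfH)
  have hHD : H = D := by
    refine Subgroup.eq_of_le_of_card_ge inf_le_left ?_
    have hd' : Nat.card H ∈ Nat.divisors 9 :=
      Nat.mem_divisors.2 ⟨hD ▸ Subgroup.card_dvd_of_le inf_le_left, by norm_num⟩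
    rw [show Nat.divisors 9 = {1, 3, 9} by decide +kernel] at hd'
    simp only [Finset.mem_insert, Finset.mem_singleton] at hd'
    omega
  refine Subgroup.mem_centralizer_iff.2 fun a ha => ?_
  exact Subgroup.mem_centralizer_singleton_iff.1 ((hHD ▸ ha : a ∈ H).2)

end general

variable {G : Type*} [Group G] [Finite G] [IsSimpleGroup G]

/-- A subgroup of index 13 is transitive on the other cosets. -/
theorem exists_mem_smul_eq (hG : ¬ IsMulCommutative G) {M : Subgroup G} (hM : M.index = 13)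
    {q r : G ⧸ M} (hq : q ≠ ((1 : G) : G ⧸ M)) (hr : r ≠ ((1 : G) : G ⧸ M)) :
    ∃ m ∈ M, m • q = r := by
  haveI := Fintype.ofFinite (G ⧸ M)
  have hMtop : M ≠ ⊤ := fun e => by rw [e, Subgroup.index_top] at hM; omega
  classical
  set f := MulAction.toPermHom G (G ⧸ M) with hf
  have hinj : Function.Injective f := toPermHom_coset_injective hMtop
  haveI : MulAction.IsPretransitive f.range (G ⧸ M) := ⟨fun x y => by
    obtain ⟨g, hg⟩ := MulAction.exists_smul_eq G x y
    exact ⟨⟨f g, g, rfl⟩, hg⟩⟩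
  rcases Cfsg.Agent.S0675.result (α := G ⧸ M)
    (by rw [← Nat.card_eq_fintype_card, ← Subgroup.index_eq_card, hM]; norm_num) f.range with h | h
  · haveI := h
    haveI : Group.IsSolvable G :=
      solvable_of_solvable_injective (f := f.rangeRestrict) fun x y hxy =>
        hinj (congrArg Subtype.val hxy)
    exact absurd ⟨⟨IsSimpleGroup.comm_iff_isSolvable.2 inferInstance⟩⟩ hG
  · obtain ⟨⟨_, g, rfl⟩, hg1, hg2⟩ := is_two_pretransitive_iff.1 h (Ne.symm hq) (Ne.symm hr)
    refine ⟨g, ?_, hg2⟩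
    have : g ∈ stabilizer G ((1 : G) : G ⧸ M) := hg1
    rwa [stabilizer_quotient] at this

/-- The Sylow 3-subgroup is abelian if its normaliser has index 13. -/
theorem abelian_of_normalizer_index (hG : ¬ IsMulCommutative G) (hN : Nat.card G = 5616)
    [Fact (Nat.Prime 3)] (P : Sylow 3 G) (h13 : Nat.card (Sylow 3 G) = 13) :
    ∀ x ∈ (P : Subgroup G), ∀ y ∈ (P : Subgroup G), x * y = y * x := by
  classical
  set M := Subgroup.normalizer ((P : Subgroup G) : Set G) with hM
  have hMi : M.index = 13 := h13 ▸ P.card_eq_index_normalizer.symm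
  have hMtop : M ≠ ⊤ := fun e => by rw [e, Subgroup.index_top] at hMi; omega
  have hP : Nat.card (P : Subgroup G) = 27 :=
    (card_sylow_eq (k := 3) (m := 208) (by rw [hN]; norm_num) (by norm_num) P).trans (by norm_num)
  set o : G ⧸ M := ((1 : G) : G ⧸ M) with ho
  have hMo : ∀ m ∈ M, m • o = o := fun m hm => by
    have : m ∈ stabilizer G o := by rw [ho, stabilizer_quotient]; exact hm
    exact this
  let PP := (P : Subgroup G)
  -- every orbit of `P` has at most three points
  have hsmall : ∀ q : G ⧸ M, Nat.card (orbit PP q) ≤ 3 := by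
    intro q
    by_cases hq : q = o
    · subst hq
      have h : orbit PP o = {o} := by
        ext r
        simp only [Set.mem_singleton_iff, mem_orbit_iff]
        exact ⟨fun ⟨x, hx⟩ => hx.symm.trans (hMo x (Subgroup.le_normalizer x.2)),
          fun hr => ⟨1, by rw [one_smul]; exact hr.symm⟩⟩
      rw [h, Nat.card_coe_set_eq, Set.ncard_singleton]
      norm_num
    by_contra hlt
    obtain ⟨j, hj⟩ := P.2.card_orbit q
    have hj' : 3 ^ j ∣ 27 := by
      rw [← hj, Nat.card_coe_set_eq, ← index_stabilizer, ← hP]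
      exact Subgroup.index_dvd_card _
    obtain ⟨j', hj3, he⟩ := (Nat.dvd_prime_pow Nat.prime_three).1 (show 3 ^ j ∣ 3 ^ 3 from hj')
    obtain rfl : j = j' := Nat.pow_right_injective (by norm_num) he
    -- all orbits away from `o` are equally large
    have hall : ∀ r : {r : G ⧸ M // r ≠ o}, Nat.card (orbit PP r.1) = 3 ^ j := by
      intro r
      obtain ⟨m, hm, hmr⟩ := exists_mem_smul_eq hG hMi hq r.2
      rw [← hj, Nat.card_coe_set_eq, Nat.card_coe_set_eq]
      have himg : orbit PP r.1 = (fun z => m • z) '' orbit PP q := by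
        ext z
        simp only [Set.mem_image, mem_orbit_iff]
        constructor
        · rintro ⟨x, rfl⟩
          refine ⟨(m⁻¹ * x * m) • q, ⟨⟨m⁻¹ * x * m, ?_⟩, rfl⟩, ?_⟩
          · exact (Subgroup.mem_normalizer_iff''.1 hm x).1 x.2
          · show m • (m⁻¹ * (x : G) * m) • q = (x : G) • r.1
            rw [← hmr, smul_smul, smul_smul]
            group
        · rintro ⟨_, ⟨x, rfl⟩, rfl⟩
          refine ⟨⟨m * x * m⁻¹, (Subgroup.mem_normalizer_iff.1 hm x).1 x.2⟩, ?_⟩
          show (m * (x : G) * m⁻¹) • r.1 = m • (x : G) • q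
          rw [← hmr, smul_smul, smul_smul]
          group
      rw [himg, Set.ncard_image_of_injective _ (MulAction.injective m)]
    let F : SubMulAction PP (G ⧸ M) :=
      { carrier := {r | r ≠ o}
        smul_mem' := fun x r hr h => hr (by
          have h' : (x : G) • r = o := h
          have := congrArg (fun z => (x : G)⁻¹ • z) h'
          simp only [inv_smul_smul] at this
          rw [this]
          exact hMo _ (inv_mem (Subgroup.le_normalizer x.2))) }
    have hF : Nat.card F = 12 := by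
      haveI := Fintype.ofFinite (G ⧸ M)
      show Nat.card {r : G ⧸ M // r ≠ o} = 12
      rw [Nat.card_eq_fintype_card, Fintype.card_subtype_compl, Fintype.card_subtype_eq,
        ← Nat.card_eq_fintype_card, ← Subgroup.index_eq_card, hMi]
    have h12 : 3 ^ j ∣ 12 := by
      rw [← hF]
      refine CfsgLib.Derangement.dvd_card_of_dvd_orbit (M := PP) fun r => dvd_of_eq ?_
      rw [← hall ⟨r.1, r.2⟩, Nat.card_coe_set_eq, Nat.card_coe_set_eq, ← index_stabilizer,
        ← index_stabilizer]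
      congr 1
      ext x
      simp only [mem_stabilizer_iff]
      exact ⟨fun h => Subtype.ext h, fun h => congrArg Subtype.val h⟩
    rw [hj] at hlt
    interval_cases j <;> omega
  intro x hx y hy
  refine commutatorElement_eq_one_iff_mul_comm.1 (toPermHom_coset_injective hMtop ?_)
  rw [map_one]
  refine Equiv.ext fun q => ?_
  set S := stabilizer PP q with hS
  have hSi : S.index ≤ 3 := by rw [hS, index_stabilizer, ← Nat.card_coe_set_eq]; exact hsmall q
  have hS13 : S.index = 1 ∨ S.index = 3 := by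
    have hd : S.index ∣ 27 := hP ▸ Subgroup.index_dvd_card S
    interval_cases h : S.index <;> omega
  have hSn : S.Normal := by
    rcases hS13 with h | h
    · rw [Subgroup.index_eq_one.1 h]; infer_instance
    · refine Subgroup.normal_of_index_eq_minFac_card ?_
      rw [h, show Nat.card PP = 27 from hP]
      norm_num
  have hmem : ⁅(⟨x, hx⟩ : PP), (⟨y, hy⟩ : PP)⁆ ∈ S := by
    rw [← QuotientGroup.eq_one_iff (N := S), ← QuotientGroup.mk'_apply, map_commutatorElement,
      commutatorElement_eq_one_iff_mul_comm]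
    haveI : IsCyclic (PP ⧸ S) := by
      rcases hS13 with h | h
      · haveI : Subsingleton (PP ⧸ S) := by
          refine (Nat.card_eq_one_iff_unique.1 ?_).1
          rw [← Subgroup.index_eq_card, h]
        infer_instance
      · exact isCyclic_of_prime_card (p := 3) (by rw [← Subgroup.index_eq_card, h])
    obtain ⟨γ, hγ⟩ := IsCyclic.exists_generator (α := PP ⧸ S)
    obtain ⟨a, ha⟩ := hγ (QuotientGroup.mk' S ⟨x, hx⟩)
    obtain ⟨b, hb⟩ := hγ (QuotientGroup.mk' S ⟨y, hy⟩)
    rw [← ha, ← hb]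
    exact zpow_mul_comm γ a b
  exact hmem

/-- A subgroup of order 9 normalised by two Sylow subgroups: the local data. -/
theorem parabolic (hG : ¬ IsMulCommutative G) (hN : Nat.card G = 5616) [Fact (Nat.Prime 3)]
    {D : Subgroup G} (hD : Nat.card D = 9) (P R : Sylow 3 G) (hPR : P ≠ R)
    (hDP : D ≤ (P : Subgroup G)) (hDR : D ≤ (R : Subgroup G)) :
    Nat.card (Subgroup.normalizer (D : Set G)) = 432 ∧ Subgroup.centralizer (D : Set G) = D ∧
      ∃ d e a b : G, d ∈ D ∧ e ∈ D ∧ orderOf d = 3 ∧ orderOf e = 3 ∧ e ∉ Subgroup.zpowers d ∧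
        a ∈ Subgroup.normalizer (D : Set G) ∧ b ∈ Subgroup.normalizer (D : Set G) ∧
        a * d * a⁻¹ = d ∧ a * e * a⁻¹ = e * d ∧ b * e * b⁻¹ = e ∧ b * d * b⁻¹ = d * e := by
  classical
  have hN3 : Nat.card G = 3 ^ 3 * 208 := hN
  have h27 : ∀ T : Sylow 3 G, Nat.card (T : Subgroup G) = 27 := fun T =>
    (card_sylow_eq hN3 (by norm_num) T).trans (by norm_num)
  set M := Subgroup.normalizer (D : Set G) with hM
  have hPM : (P : Subgroup G) ≤ M := le_normalizer_of_nine hD (h27 P) hDP
  have hRM : (R : Subgroup G) ≤ M := le_normalizer_of_nine hD (h27 R) hDR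
  have hD1 : D ≠ ⊥ := fun e => by rw [e, Subgroup.card_bot] at hD; omega
  have hDtop : D ≠ ⊤ := fun e => by rw [e, Subgroup.card_top, hN] at hD; omega
  have hMtop : M ≠ ⊤ := normalizer_ne_top hD1 hDtop
  have hDab : ∀ x ∈ D, ∀ y ∈ D, x * y = y * x := fun x hx y hy =>
    congrArg Subtype.val (IsPGroup.commutative_of_card_eq_prime_sq (p := 3)
      (show Nat.card D = 3 ^ 2 by rw [hD]; norm_num) ⟨x, hx⟩ ⟨y, hy⟩)
  set C := Subgroup.centralizer (D : Set G) with hC
  have hDC : D ≤ C := fun x hx => Subgroup.mem_centralizer_iff.2 fun y hy => hDab y hy x hx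
  -- `C(D) = D`
  have hCD : C = D := by
    have h2 : ¬ 2 ∣ Nat.card C := fun h => by
      haveI : Fact (Nat.Prime 2) := ⟨Nat.prime_two⟩
      obtain ⟨u, hu⟩ := exists_prime_orderOf_dvd_card' (G := ↥C) 2 h
      refine not_centralizes_nine hG hN (t := (u : G)) (by rw [Subgroup.orderOf_coe, hu]) ?_
      rw [← hD]
      exact Subgroup.card_dvd_of_le fun x hx => Subgroup.mem_centralizer_singleton_iff.2
        (Subgroup.mem_centralizer_iff.1 u.2 x hx)
    obtain ⟨z, hz⟩ := exists_prime_orderOf_dvd_card' (G := ↥D) 3 (by rw [hD]; norm_num)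
    have h13 : ¬ 13 ∣ Nat.card C := fun h => by
      refine not_thirteen_dvd_centralizer hG hN (a := (z : G))
        (by rw [Subgroup.orderOf_coe, hz]; norm_num) (h.trans (Subgroup.card_dvd_of_le fun x hx => ?_))
      exact Subgroup.mem_centralizer_singleton_iff.2 (Subgroup.mem_centralizer_iff.1 hx z z.2).symm
    have hd27 : Nat.card C ∣ 27 := by
      have h1 : Nat.card C ∣ 2 ^ 4 * (13 * 27) := (Subgroup.card_subgroup_dvd_card _).trans hN.dvd
      exact ((Nat.Prime.coprime_iff_not_dvd (by norm_num)).2 h13).symm.dvd_of_dvd_mul_left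
        (((Nat.prime_two.coprime_iff_not_dvd.2 h2).pow_left 4).symm.dvd_of_dvd_mul_left h1)
    refine (Subgroup.eq_of_le_of_card_ge hDC ?_).symm
    rw [hD]
    have h9 : 9 ∣ Nat.card C := hD ▸ Subgroup.card_dvd_of_le hDC
    by_contra hlt
    have hC27 : Nat.card C = 27 := by
      have := Nat.le_of_dvd (by norm_num) hd27
      obtain ⟨i, hi⟩ := h9
      have : i ≤ 3 := by omega
      interval_cases i <;> omega
    -- a normal Sylow subgroup of `N(D)`
    have key : ∀ T : Sylow 3 G, (T : Subgroup G) ≤ M → (T : Subgroup G) = C := by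
      intro T hT
      have hCp : IsPGroup 3 C := IsPGroup.of_card (n := 3) (by rw [hC27]; norm_num)
      have hTN : (T : Subgroup G) ≤ Subgroup.normalizer (C : Set G) := by
        have hfwd : ∀ g ∈ M, ∀ c ∈ C, g * c * g⁻¹ ∈ C := fun g hg c hc =>
          Subgroup.mem_centralizer_iff.2 fun z hz => by
            have := Subgroup.mem_centralizer_iff.1 hc _ ((Subgroup.mem_normalizer_iff''.1 hg z).1 hz)
            calc z * (g * c * g⁻¹) = g * (g⁻¹ * z * g * c) * g⁻¹ := by group
              _ = g * (c * (g⁻¹ * z * g)) * g⁻¹ := by rw [this]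
              _ = g * c * g⁻¹ * z := by group
        intro g hg
        refine Subgroup.mem_normalizer_iff.2 fun c => ⟨hfwd g (hT hg) c, fun hc => ?_⟩
        have h := hfwd g⁻¹ (inv_mem (hT hg)) _ hc
        simpa [mul_assoc] using h
      have h := T.3 (IsPGroup.to_sup_of_normal_right' T.2 hCp hTN) le_sup_left
      exact (Subgroup.eq_of_le_of_card_ge (le_sup_right.trans_eq h) (by rw [h27, hC27])).symm
    exact hPR (Sylow.ext ((key P hPM).trans (key R hRM).symm))
  have hmemD : ∀ {g : G}, g ∈ C → g ∈ D := fun h => hCD ▸ h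
  -- no element of order thirteen normalises `D`
  have h13M : ¬ 13 ∣ Nat.card M := fun h => by
    haveI : Fact (Nat.Prime 13) := ⟨by norm_num⟩
    obtain ⟨x, hx⟩ := exists_prime_orderOf_dvd_card' (G := ↥M) 13 h
    set σ : Equiv.Perm D := MulAut.toPerm D (Subgroup.normalizerMonoidHom D x) with hσ
    have h13 : orderOf σ ∣ 13 := by
      rw [hσ, ← hx]
      exact (orderOf_map_dvd _ _).trans (orderOf_map_dvd _ _)
    have h9 : orderOf σ ∣ Nat.factorial 9 := by
      rw [← hD, ← Nat.card_perm]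
      exact orderOf_dvd_natCard σ
    have h1 : σ = 1 := orderOf_eq_one_iff.1 (Nat.dvd_one.1 (by
      have h := Nat.dvd_gcd h13 h9
      rwa [show Nat.gcd 13 (Nat.factorial 9) = 1 by decide +kernel] at h))
    have hk : x ∈ (Subgroup.normalizerMonoidHom D).ker :=
      MonoidHom.mem_ker.2 (MulEquiv.ext fun z => Equiv.congr_fun h1 z)
    rw [Subgroup.normalizerMonoidHom_ker, Subgroup.mem_subgroupOf] at hk
    have := hD ▸ Subgroup.orderOf_dvd_natCard D (hmemD hk)
    rw [Subgroup.orderOf_coe, hx] at this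
    norm_num at this
  -- central elements
  have hcen : ∀ T : Sylow 3 G, D ≤ (T : Subgroup G) → ∃ d ∈ D, orderOf d = 3 ∧
      ∀ x ∈ (T : Subgroup G), x * d = d * x := by
    intro T hT
    haveI : Nontrivial ↥(T : Subgroup G) := Finite.one_lt_card_iff_nontrivial.1 (by rw [h27 T]; norm_num)
    haveI := T.2.center_nontrivial
    obtain ⟨j, hj⟩ := IsPGroup.iff_card.1 (T.2.to_subgroup (Subgroup.center ↥(T : Subgroup G)))
    obtain ⟨z, hz⟩ := exists_prime_orderOf_dvd_card' (G := ↥(Subgroup.center ↥(T : Subgroup G))) 3 (by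
      rw [hj]
      refine dvd_pow_self 3 fun e => ?_
      have := Finite.one_lt_card (α := ↥(Subgroup.center ↥(T : Subgroup G)))
      rw [hj, e] at this
      simp at this)
    have hzc : ∀ x ∈ (T : Subgroup G), x * (z : ↥(T : Subgroup G)) = (z : ↥(T : Subgroup G)) * x :=
      fun x hx => congrArg Subtype.val (Subgroup.mem_center_iff.1 z.2 ⟨x, hx⟩)
    exact ⟨((z : ↥(T : Subgroup G)) : G), hmemD (Subgroup.mem_centralizer_iff.2 fun x hx =>
      hzc x (hT hx)), by rw [Subgroup.orderOf_coe, Subgroup.orderOf_coe, hz], hzc⟩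
  obtain ⟨d, hdD, hd3, hdP⟩ := hcen P hDP
  obtain ⟨e, heD, he3, heR⟩ := hcen R hDR
  have hout : ∀ T : Sylow 3 G, D ≤ (T : Subgroup G) → ∃ a ∈ (T : Subgroup G), a ∉ D := by
    intro T hT
    by_contra h
    push Not at h
    have := Subgroup.card_le_of_le (show (T : Subgroup G) ≤ D from h)
    rw [h27 T, hD] at this
    omega
  have hgen : ∀ (T : Sylow 3 G), D ≤ (T : Subgroup G) → ∀ a ∈ (T : Subgroup G), a ∉ D →
      ∀ H : Subgroup G, D ≤ H → a ∈ H → (T : Subgroup G) ≤ H := by
    intro T hT a ha haD H hDH haH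
    have hd : Nat.card ((T : Subgroup G) ⊓ H : Subgroup G) ∈ Nat.divisors 27 :=
      Nat.mem_divisors.2 ⟨h27 T ▸ Subgroup.card_dvd_of_le inf_le_left, by norm_num⟩
    have h9 : 9 ≤ Nat.card ((T : Subgroup G) ⊓ H : Subgroup G) := hD ▸ Subgroup.card_le_of_le (le_inf hT hDH)
    rw [show Nat.divisors 27 = {1, 3, 9, 27} by decide +kernel] at hd
    simp only [Finset.mem_insert, Finset.mem_singleton] at hd
    rcases hd with h | h | h | h <;> try omega
    · exact absurd ((Subgroup.eq_of_le_of_card_ge (le_inf hT hDH) (by omega)).ge ⟨ha, haH⟩) haD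
    · exact (Subgroup.eq_of_le_of_card_ge (inf_le_left (b := H)) (by rw [h27 T]; omega)).ge.trans inf_le_right
  -- the two central lines differ
  have hed : e ∉ Subgroup.zpowers d := by
    intro hed
    have hdR : ∀ x ∈ (R : Subgroup G), x * d = d * x := by
      intro x hx
      have hze : Subgroup.zpowers e = Subgroup.zpowers d :=
        Subgroup.eq_of_le_of_card_ge (Subgroup.zpowers_le.2 hed) (by
          rw [Nat.card_zpowers, Nat.card_zpowers, hd3, he3])
      obtain ⟨k, hk⟩ := (hze.ge (Subgroup.mem_zpowers d))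
      rw [← hk]
      exact (Commute.zpow_right (show Commute x e from heR x hx) k).eq
    obtain ⟨f, hf, hfd⟩ : ∃ f ∈ D, f ∉ Subgroup.zpowers d := by
      by_contra h
      push Not at h
      have := Subgroup.card_le_of_le (show D ≤ Subgroup.zpowers d from h)
      rw [hD, Nat.card_zpowers, hd3] at this
      omega
    obtain ⟨a, haP, haD⟩ := hout P hDP
    obtain ⟨b, hbR, hbD⟩ := hout R hDR
    obtain ⟨i, hi, hia⟩ := exists_shift (h27 P) hd3 (hDP hdD) hdP haP (hDP hf)
    obtain ⟨j, hj, hjb⟩ := exists_shift (h27 R) hd3 (hDR hdD) hdR hbR (hDR hf)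
    have hda : a * d * a⁻¹ = d := by rw [hdP a haP, mul_inv_cancel_right]
    have hdb : b * d * b⁻¹ = d := by rw [hdR b hbR, mul_inv_cancel_right]
    have fix : ∀ (g : G), g * d * g⁻¹ = d → g * f * g⁻¹ = f → g ∈ D := fun g h1 h2 =>
      hmemD (mem_centralizer_of_two hD hdD hd3 hf hfd (mul_inv_eq_iff_eq_mul.1 h1)
        (mul_inv_eq_iff_eq_mul.1 h2))
    have hd3' : d ^ 3 = 1 := hd3 ▸ pow_orderOf_eq_one d
    have hi0 : i ≠ 0 := by rintro rfl; exact haD (fix a hda (by simpa using hia))
    have hj0 : j ≠ 0 := by rintro rfl; exact hbD (fix b hdb (by simpa using hjb))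
    obtain ⟨g, hgR, hgd, hgf⟩ : ∃ g ∈ (R : Subgroup G), g * d * g⁻¹ = d ∧
        g * f * g⁻¹ = f * d ^ i := by
      by_cases hij : i = j
      · exact ⟨b, hbR, hdb, hij ▸ hjb⟩
      · refine ⟨b * b, mul_mem hbR hbR, ?_, ?_⟩
        · rw [show b * b * d * (b * b)⁻¹ = b * (b * d * b⁻¹) * b⁻¹ by group, hdb, hdb]
        · rw [show b * b * f * (b * b)⁻¹ = b * (b * f * b⁻¹) * b⁻¹ by group, hjb,
            show b * (f * d ^ j) * b⁻¹ = (b * f * b⁻¹) * (b * d * b⁻¹) ^ j by rw [conj_pow]; group,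
            hdb, hjb, mul_assoc, ← pow_add]
          have hjj : (j = 1 ∧ i = 2) ∨ (j = 2 ∧ i = 1) := by omega
          rcases hjj with ⟨rfl, rfl⟩ | ⟨rfl, rfl⟩
          · norm_num
          · rw [show 2 + 2 = 3 + 1 from rfl, pow_add, hd3', one_mul]
    have haR : a ∈ (R : Subgroup G) := by
      have h1 : g⁻¹ * a ∈ D := by
        refine fix _ ?_ ?_
        · calc g⁻¹ * a * d * (g⁻¹ * a)⁻¹ = g⁻¹ * (a * d * a⁻¹) * g := by group
            _ = g⁻¹ * (g * d * g⁻¹) * g := by rw [hda, hgd]
            _ = d := by group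
        · calc g⁻¹ * a * f * (g⁻¹ * a)⁻¹ = g⁻¹ * (a * f * a⁻¹) * g := by group
            _ = g⁻¹ * (g * f * g⁻¹) * g := by rw [hia, hgf]
            _ = f := by group
      simpa using mul_mem hgR (hDR h1)
    exact hPR (Sylow.ext (Subgroup.eq_of_le_of_card_ge (hgen P hDP a haP haD R hDR haR)
      (by rw [h27, h27])))
  have hde : d ∉ Subgroup.zpowers e := fun h => hed ((Subgroup.eq_of_le_of_card_ge
    (Subgroup.zpowers_le.2 h) (by rw [Nat.card_zpowers, Nat.card_zpowers, hd3, he3])).ge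
      (Subgroup.mem_zpowers e))
  -- normalised generators
  have norm : ∀ (T : Sylow 3 G), D ≤ (T : Subgroup G) → ∀ u v : G, u ∈ D → v ∈ D → orderOf u = 3 →
      v ∉ Subgroup.zpowers u → (∀ x ∈ (T : Subgroup G), x * u = u * x) →
      ∃ a ∈ (T : Subgroup G), a * u * a⁻¹ = u ∧ a * v * a⁻¹ = v * u := by
    intro T hT u v hu hv hu3 hvu hc
    obtain ⟨a, haT, haD⟩ := hout T hT
    obtain ⟨i, hi, hia⟩ := exists_shift (h27 T) hu3 (hT hu) hc haT (hT hv)
    have hau : a * u * a⁻¹ = u := by rw [hc a haT, mul_inv_cancel_right]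
    have hu3' : u ^ 3 = 1 := hu3 ▸ pow_orderOf_eq_one u
    interval_cases i
    · exact absurd (hmemD (mem_centralizer_of_two hD hu hu3 hv hvu (mul_inv_eq_iff_eq_mul.1 hau)
        (mul_inv_eq_iff_eq_mul.1 (by simpa using hia)))) haD
    · exact ⟨a, haT, hau, by simpa using hia⟩
    · refine ⟨a * a, mul_mem haT haT, ?_, ?_⟩
      · rw [show a * a * u * (a * a)⁻¹ = a * (a * u * a⁻¹) * a⁻¹ by group, hau, hau]
      · rw [show a * a * v * (a * a)⁻¹ = a * (a * v * a⁻¹) * a⁻¹ by group, hia,
          show a * (v * u ^ 2) * a⁻¹ = (a * v * a⁻¹) * (a * u * a⁻¹) ^ 2 by rw [conj_pow]; group,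
          hau, hia, mul_assoc, ← pow_add, show 2 + 2 = 3 + 1 from rfl, pow_add, hu3', one_mul,
          pow_one]
  obtain ⟨a, haP, had, hae⟩ := norm P hDP d e hdD heD hd3 hed hdP
  obtain ⟨b, hbR, hbe, hbd⟩ := norm R hDR e d heD hdD he3 hde heR
  refine ⟨?_, hCD, d, e, a, b, hdD, heD, hd3, he3, hed, hPM haP, hRM hbR, had, hae, hbe, hbd⟩
  -- an element inverting `D`
  set t := a * b * (a * b) with ht
  have hde' : d * e = e * d := hDab d hdD e heD
  have hs1 : (a * b) * d * (a * b)⁻¹ = d ^ 2 * e := by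
    rw [show a * b * d * (a * b)⁻¹ = a * (b * d * b⁻¹) * a⁻¹ by group, hbd,
      show a * (d * e) * a⁻¹ = (a * d * a⁻¹) * (a * e * a⁻¹) by group, had, hae, ← hde', ← mul_assoc,
      pow_two]
  have hs2 : (a * b) * e * (a * b)⁻¹ = e * d := by
    rw [show a * b * e * (a * b)⁻¹ = a * (b * e * b⁻¹) * a⁻¹ by group, hbe, hae]
  have hd3' : d ^ 3 = 1 := hd3 ▸ pow_orderOf_eq_one d
  have he3' : e ^ 3 = 1 := he3 ▸ pow_orderOf_eq_one e
  have hcm : Commute d e := hde'
  have htd : t * d * t⁻¹ = d⁻¹ := by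
    rw [ht, show a * b * (a * b) * d * (a * b * (a * b))⁻¹ =
      a * b * (a * b * d * (a * b)⁻¹) * (a * b)⁻¹ by group, hs1,
      show a * b * (d ^ 2 * e) * (a * b)⁻¹ = (a * b * d * (a * b)⁻¹) ^ 2 * (a * b * e * (a * b)⁻¹) by
        rw [conj_pow]; group,
      hs1, hs2, (hcm.pow_left 2).mul_pow, mul_assoc, ← mul_assoc (e ^ 2), ← pow_succ, he3', one_mul,
      ← pow_mul, ← pow_succ]
    refine eq_inv_of_mul_eq_one_left ?_
    rw [← pow_succ, show 2 * 2 + 1 + 1 = 3 * 2 from rfl, pow_mul, hd3', one_pow]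
  have hte : t * e * t⁻¹ = e⁻¹ := by
    rw [ht, show a * b * (a * b) * e * (a * b * (a * b))⁻¹ =
      a * b * (a * b * e * (a * b)⁻¹) * (a * b)⁻¹ by group, hs2,
      show a * b * (e * d) * (a * b)⁻¹ = (a * b * e * (a * b)⁻¹) * (a * b * d * (a * b)⁻¹) by group,
      hs1, hs2, mul_assoc, ← mul_assoc d, ← pow_succ', hd3', one_mul]
    refine eq_inv_of_mul_eq_one_left ?_
    rw [← pow_two, ← pow_succ, he3']
  have hinv : ∀ x ∈ D, t * x * t⁻¹ = x⁻¹ := by
    let K : Subgroup G :=
      { carrier := {x | x ∈ D ∧ t * x * t⁻¹ = x⁻¹}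
        one_mem' := ⟨one_mem D, by group⟩
        mul_mem' := fun {x y} hx hy => ⟨mul_mem hx.1 hy.1, by
          rw [show t * (x * y) * t⁻¹ = (t * x * t⁻¹) * (t * y * t⁻¹) by group, hx.2, hy.2,
            hDab _ (inv_mem hx.1) _ (inv_mem hy.1), mul_inv_rev]⟩
        inv_mem' := fun {x} hx => ⟨inv_mem hx.1, by
          rw [show t * x⁻¹ * t⁻¹ = (t * x * t⁻¹)⁻¹ by group, hx.2]⟩ }
    have hKD : K = D := by
      refine Subgroup.eq_of_le_of_card_ge (fun x hx => hx.1) ?_
      have hdK : Subgroup.zpowers d ≤ K := Subgroup.zpowers_le.2 ⟨hdD, htd⟩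
      have hd' : Nat.card K ∈ Nat.divisors 9 :=
        Nat.mem_divisors.2 ⟨hD ▸ Subgroup.card_dvd_of_le fun x hx => hx.1, by norm_num⟩
      rw [show Nat.divisors 9 = {1, 3, 9} by decide +kernel] at hd'
      simp only [Finset.mem_insert, Finset.mem_singleton] at hd'
      have h3 : 3 < Nat.card K := by
        by_contra hle3
        have h := Subgroup.eq_of_le_of_card_ge hdK (by rw [Nat.card_zpowers, hd3]; omega)
        exact hed (h ▸ (⟨heD, hte⟩ : e ∈ K))
      omega
    intro x hx
    exact ((hKD ▸ hx : x ∈ K)).2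
  have hinv' : ∀ x ∈ D, t⁻¹ * x * t = x⁻¹ := fun x hx => by
    have h := congrArg (fun z => t⁻¹ * z * t) (hinv x⁻¹ (inv_mem hx))
    simp only [inv_inv] at h
    rw [← h]
    group
  have htM : t ∈ M := mul_mem (mul_mem (hPM haP) (hRM hbR)) (mul_mem (hPM haP) (hRM hbR))
  -- `t` normalises `P` and centralises `P / D`
  have hconjD : ∀ x ∈ M, ∀ z ∈ D, x * z * x⁻¹ ∈ D := fun x hx z hz =>
    (Subgroup.mem_normalizer_iff.1 hx z).1 hz
  have htP : ∀ x ∈ (P : Subgroup G), x⁻¹ * (t * x * t⁻¹) ∈ D := by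
    intro x hx
    refine hmemD (Subgroup.mem_centralizer_iff.2 fun z hz => ?_)
    have h3 : (t * x * t⁻¹) * z * (t * x * t⁻¹)⁻¹ = x * z * x⁻¹ := by
      calc (t * x * t⁻¹) * z * (t * x * t⁻¹)⁻¹ = t * (x * (t⁻¹ * z * t) * x⁻¹) * t⁻¹ := by group
        _ = t * (x * z * x⁻¹)⁻¹ * t⁻¹ := by rw [hinv' z hz]; group
        _ = x * z * x⁻¹ := by rw [hinv _ (inv_mem (hconjD x (hPM hx) z hz)), inv_inv]
    calc z * (x⁻¹ * (t * x * t⁻¹)) = x⁻¹ * (x * z * x⁻¹) * (t * x * t⁻¹) := by group
      _ = x⁻¹ * ((t * x * t⁻¹) * z * (t * x * t⁻¹)⁻¹) * (t * x * t⁻¹) := by rw [h3]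
      _ = x⁻¹ * (t * x * t⁻¹) * z := by group
  have htNP : t ∈ Subgroup.normalizer ((P : Subgroup G) : Set G) := by
    refine Subgroup.mem_normalizer_iff.2 fun x => ?_
    have hfwd : ∀ y ∈ (P : Subgroup G), t * y * t⁻¹ ∈ (P : Subgroup G) := fun y hy => by
      simpa using mul_mem hy (hDP (htP y hy))
    refine ⟨hfwd x, fun hx => ?_⟩
    have hinj : Function.Injective fun z : ↥(P : Subgroup G) =>
        (⟨t * z * t⁻¹, hfwd z z.2⟩ : ↥(P : Subgroup G)) := fun u v h => by
      simpa using congrArg Subtype.val h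
    obtain ⟨z, hz⟩ := Finite.surjective_of_injective hinj ⟨_, hx⟩
    have : t * (z : G) * t⁻¹ = t * x * t⁻¹ := congrArg Subtype.val hz
    rw [mul_left_inj, mul_right_inj] at this
    exact this ▸ z.2
  have ht2 : 2 ∣ orderOf t := by
    by_contra h
    obtain ⟨m, hm⟩ : Odd (orderOf t) := Nat.odd_iff.2 (by omega)
    have hsq : Commute (t * t) d := by
      have : t * t * d * (t * t)⁻¹ = d := by
        rw [show t * t * d * (t * t)⁻¹ = t * (t * d * t⁻¹) * t⁻¹ by group, htd,
          show t * d⁻¹ * t⁻¹ = (t * d * t⁻¹)⁻¹ by group, htd, inv_inv]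
      exact mul_inv_eq_iff_eq_mul.1 this
    have h1 : Commute t d := by
      have : (t * t) ^ (m + 1) = t := by
        rw [← pow_two, ← pow_mul, show 2 * (m + 1) = orderOf t + 1 by omega, pow_succ,
          pow_orderOf_eq_one, one_mul]
      rw [← this]
      exact hsq.pow_left _
    rw [h1.eq, mul_inv_cancel_right] at htd
    have : d ^ 2 = 1 := by rw [pow_two]; nth_rewrite 2 [htd]; exact mul_inv_cancel d
    have := orderOf_dvd_of_pow_eq_one this
    rw [hd3] at this
    norm_num at this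
  -- the order of `N(D)`
  obtain ⟨c, hc⟩ := h27 P ▸ Subgroup.card_dvd_of_le hPM
  have hidx := M.card_mul_index
  rw [hc, hN] at hidx
  have hcd : c * M.index = 208 := by linarith
  have hfac := two_mul_card_dvd_factorial_index hG M hMtop
  rw [hN] at hfac
  have hd13 : 13 ≤ M.index := by
    by_contra hlt
    exact absurd (hfac.trans (Nat.factorial_dvd_factorial (show M.index ≤ 12 by omega)))
      (by decide +kernel)
  have hc16 : c ≤ 16 := by
    have := Nat.mul_le_mul_left c hd13
    omega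
  have hcd' := mem_divisors_of_dvd (Dvd.intro _ hcd) (by norm_num)
  rw [show Nat.divisors 208 = {1, 2, 4, 8, 13, 16, 26, 52, 104, 208} by decide +kernel] at hcd'
  simp only [Finset.mem_insert, Finset.mem_singleton] at hcd'
  have hc13 : c ≠ 13 := fun e => h13M (by rw [hc, e]; norm_num)
  by_contra hne
  have hc' : c = 1 ∨ c = 2 ∨ c = 4 ∨ c = 8 := by omega
  have hMc : Nat.card M = 3 ^ 3 * c := hc.trans (by norm_num)
  have h3c : ¬ 3 ∣ c := by rcases hc' with rfl | rfl | rfl | rfl <;> norm_num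
  have hn4 : Nat.card (Sylow 3 M) = 4 := by
    have h1 := card_sylow_mod (G := M) 3
    have h2 := card_sylow_dvd hMc h3c
    have h3 : Nat.card (Sylow 3 M) ≠ 1 := fun h1' => by
      haveI := (Nat.card_eq_one_iff_unique.1 h1').1
      exact hPR (Sylow.subtype_injective (hP := hPM) (hQ := hRM) (Subsingleton.elim _ _))
    have h4 := Nat.le_of_dvd (by omega) h2
    rcases hc' with rfl | rfl | rfl | rfl <;> interval_cases h : Nat.card (Sylow 3 M) <;> omega
  set N := Subgroup.normalizer ((P : Subgroup G) : Set G) with hNdef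
  have hinf := card_inf_normalizer_mul P hPM
  rw [hn4, hc, ← hNdef] at hinf
  have h54 : 2 * 27 ∣ Nat.card (M ⊓ N : Subgroup G) := by
    refine Nat.Coprime.mul_dvd_of_dvd_of_dvd (by norm_num) ?_ ?_
    · exact ht2.trans (Subgroup.orderOf_dvd_natCard _ ⟨htM, htNP⟩)
    · exact h27 P ▸ Subgroup.card_dvd_of_le (le_inf hPM Subgroup.le_normalizer)
  have hc8 : c = 8 ∧ Nat.card (M ⊓ N : Subgroup G) = 54 := by
    obtain ⟨i, hi⟩ := h54
    rw [hi] at hinf
    rcases hc' with rfl | rfl | rfl | rfl <;> omega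
  -- all of `N(P)` normalises `D`
  have h54N : 54 ∣ Nat.card N := hc8.2 ▸ Subgroup.card_dvd_of_le inf_le_right
  have hmulP := card_sylow_mul_card_normalizer P
  rw [hN, ← hNdef] at hmulP
  obtain ⟨i, hi⟩ := h54N
  rw [hi] at hmulP
  have hn3i : Nat.card (Sylow 3 G) * i = 104 := by linarith
  have hn3 := mem_divisors_of_dvd (Dvd.intro _ hn3i) (by norm_num)
  rw [show Nat.divisors 104 = {1, 2, 4, 8, 13, 26, 52, 104} by decide +kernel] at hn3
  simp only [Finset.mem_insert, Finset.mem_singleton] at hn3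
  have hmod := card_sylow_mod (G := G) 3
  have h52 : Nat.card (Sylow 3 G) = 52 := by
    have hne1 := card_sylow_ne_one hG (p := 3) (by rw [hN]; norm_num)
    have hne13 : Nat.card (Sylow 3 G) ≠ 13 := fun h13 => by
      have hab := abelian_of_normalizer_index hG hN P h13
      have hPC : (P : Subgroup G) ≤ C := fun x hx => Subgroup.mem_centralizer_iff.2 fun z hz =>
        hab z (hDP hz) x hx
      have := Subgroup.card_le_of_le (hPC.trans hCD.le)
      rw [h27 P, hD] at this
      omega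
    have hne4 : Nat.card (Sylow 3 G) ≠ 4 := fun h4 => by
      have := two_mul_card_dvd_factorial_sylow hG (p := 3) (by rw [hN]; norm_num)
      rw [h4, hN] at this
      exact absurd this (by decide +kernel)
    omega
  have hN108 : Nat.card N = 108 := by
    rw [h52] at hn3i
    omega
  set PN := (P : Subgroup G).subgroupOf N with hPN
  haveI : PN.Normal := Subgroup.normal_in_normalizer
  have hq4 : Nat.card (N ⧸ PN) = 2 ^ 2 := by
    have h := Subgroup.card_eq_card_quotient_mul_card_subgroup PN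
    rw [Nat.card_congr (Subgroup.subgroupOfEquivOfLe Subgroup.le_normalizer).toEquiv, h27 P,
      hN108] at h
    omega
  have hle : N ≤ M := by
    intro g hg
    haveI : Fact (Nat.Prime 2) := ⟨Nat.prime_two⟩
    -- the conjugate of `t` is `t` times an element of `P`
    have hq : (⟨t, htNP⟩ : N)⁻¹ * (⟨g, hg⟩ * ⟨t, htNP⟩ * (⟨g, hg⟩ : N)⁻¹) ∈ PN := by
      rw [← QuotientGroup.eq_one_iff]
      simp only [QuotientGroup.mk_mul, QuotientGroup.mk_inv]
      rw [IsPGroup.commutative_of_card_eq_prime_sq hq4 (QuotientGroup.mk (⟨g, hg⟩ : N))]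
      group
    rw [hPN, Subgroup.mem_subgroupOf] at hq
    simp only [Subgroup.coe_mul, Subgroup.coe_inv] at hq
    set q := t⁻¹ * (g * t * g⁻¹) with hqdef
    have hfwd : ∀ z ∈ D, g * z * g⁻¹ ∈ D := by
      intro z hz
      set z' := g * z * g⁻¹ with hz'
      have hz'P : z' ∈ (P : Subgroup G) := (Subgroup.mem_normalizer_iff.1 hg z).1 (hDP hz)
      have hzi : t * (q * z' * q⁻¹) * t⁻¹ = z'⁻¹ := by
        calc t * (q * z' * q⁻¹) * t⁻¹ = g * (t * z * t⁻¹) * g⁻¹ := by rw [hqdef, hz']; group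
          _ = z'⁻¹ := by rw [hinv z hz, hz']; group
      have h1 : (q * z' * q⁻¹)⁻¹ * z'⁻¹ ∈ D := by
        have := htP _ (mul_mem (mul_mem hq hz'P) (inv_mem hq))
        rwa [hzi] at this
      set PD := D.subgroupOf (P : Subgroup G) with hPD
      haveI : PD.Normal := by
        refine (Subgroup.normal_subgroupOf_iff_le_normalizer hDP).2 hPM
      haveI : IsCyclic ((P : Subgroup G) ⧸ PD) := isCyclic_of_prime_card (p := 3) (by
        have h := Subgroup.card_eq_card_quotient_mul_card_subgroup PD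
        rw [Nat.card_congr (Subgroup.subgroupOfEquivOfLe hDP).toEquiv, h27 P, hD] at h
        omega)
      letI := IsCyclic.commGroup (α := (P : Subgroup G) ⧸ PD)
      have h2 : ((⟨q, hq⟩ * ⟨z', hz'P⟩ * (⟨q, hq⟩ : ↥(P : Subgroup G))⁻¹)⁻¹ *
          (⟨z', hz'P⟩ : ↥(P : Subgroup G))⁻¹ : ↥(P : Subgroup G)) ∈ PD := Subgroup.mem_subgroupOf.2 h1
      rw [← QuotientGroup.eq_one_iff] at h2
      simp only [QuotientGroup.mk_mul, QuotientGroup.mk_inv] at h2
      rw [mul_comm (QuotientGroup.mk (⟨q, hq⟩ : ↥(P : Subgroup G))), mul_inv_cancel_right,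
        ← mul_inv_rev, inv_eq_one] at h2
      rw [← QuotientGroup.mk_mul, QuotientGroup.eq_one_iff, hPD, Subgroup.mem_subgroupOf,
        Subgroup.coe_mul] at h2
      change z' * z' ∈ D at h2
      have hz3 : z' ^ 27 = 1 := by
        have := h27 P ▸ pow_card_eq_one' (G := ↥(P : Subgroup G)) (x := ⟨z', hz'P⟩)
        exact congrArg Subtype.val this
      have : (z' * z') ^ 14 = z' := by
        rw [← pow_two, ← pow_mul, show 2 * 14 = 27 + 1 from rfl, pow_succ, hz3, one_mul]
      exact this ▸ pow_mem h2 14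
    refine Subgroup.mem_normalizer_iff.2 fun z => ⟨hfwd z, fun hz => ?_⟩
    have hinj : Function.Injective fun w : D => (⟨g * w * g⁻¹, hfwd w w.2⟩ : D) := fun u v h => by
      simpa using congrArg Subtype.val h
    obtain ⟨w, hw⟩ := Finite.surjective_of_injective hinj ⟨_, hz⟩
    have : g * (w : G) * g⁻¹ = g * z * g⁻¹ := congrArg Subtype.val hw
    rw [mul_left_inj, mul_right_inj] at this
    exact this ▸ w.2
  rw [inf_eq_right.2 hle, hN108] at hc8
  omega

end CfsgLib.Classification.Order5616
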